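import Cfsg.Agent.Twisted.Groups.D4Inst
import Cfsg.Agent.Twisted.Transfer
import Cfsg.Agent.Chev54.Layer
import Cfsg.Agent.Lib.ChevCore.SepAll

/-!
The twisted group of type D4 seen through root elements in the general linear group: the endomorphism fixing
it, the entrywise field endomorphism, the two monomial representatives, the torus and the double coset
decomposition.
-/

set_option autoImplicit false

namespace Cfsg.Agent.D4SubMax

open Cfsg.Lie Cfsg.Agent.ChevCore Cfsg.Agent.ChevGroup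

/-- The symmetry on the roots. -/
def rho (r : ℕ) : ℕ :=
  ([0, 1, 6, 2, 7, 10, 3, 8, 4, 9, 11, 5, 18, 12, 14, 19, 15, 20, 13, 16, 21, 17, 22, 23] : List ℕ).getD r r

/-- The signs of the endomorphism on the root elements. -/
def eps (r : ℕ) : ℤ :=
  ([1, 1, -1, 1, -1, 1, -1, 1, -1, 1, 1, 1, 1, 1, 1, -1, 1, -1, 1, -1, 1, -1, 1, 1] : List ℤ).getD r 1

/-- The two orbit reflections on the roots. -/
def wref (k : Fin 2) (r : ℕ) : ℕ :=
  if k = 0 then
    ([1, 0, 2, 3, 5, 4, 6, 10, 11, 14, 7, 8, 15, 16, 9, 12, 13, 17, 19, 18, 20, 21, 23, 22] : List ℕ).getD r r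
  else
    ([0, 9, 8, 7, 6, 18, 4, 3, 2, 1, 13, 12, 11, 10, 22, 21, 20, 19, 5, 17, 16, 15, 14, 23] : List ℕ).getD r r

/-- A word in the orbit reflections acting on the roots. -/
def wact (W : List (Fin 2)) (r : ℕ) : ℕ := W.foldr (fun k s => wref k s) r

@[simp] theorem wact_nil (r : ℕ) : wact [] r = r := rfl

@[simp] theorem wact_cons (k : Fin 2) (W : List (Fin 2)) (r : ℕ) :
    wact (k :: W) r = wref k (wact W r) := rfl

theorem wref_lt (k : Fin 2) {r : ℕ} (hr : r < 24) : wref k r < 24 := by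
  have : ∀ k : Fin 2, ∀ r : Fin 24, wref k r.val < 24 := by decide +kernel
  exact this k ⟨r, hr⟩

theorem wact_lt (W : List (Fin 2)) {r : ℕ} (hr : r < 24) : wact W r < 24 := by
  induction W with
  | nil => exact hr
  | cons k W ih => exact wref_lt k ih

theorem rho_lt {r : ℕ} (hr : r < 24) : rho r < 24 := by
  have : ∀ r : Fin 24, rho r.val < 24 := by decide +kernel
  exact this ⟨r, hr⟩

variable (F : Type*) [Field F]

/-- A product over a word of representatives. -/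
def nWord (n : Fin 2 → GL chevD4.Idx F) (W : List (Fin 2)) : GL chevD4.Idx F := (W.map n).prod

/-- The entrywise power map with exponent `q`. -/
def qHom {q : ℕ} (hq : q ≠ 0) (hadd : ∀ t u : F, (t + u) ^ q = t ^ q + u ^ q) : F →+* F where
  toFun t := t ^ q
  map_one' := one_pow q
  map_mul' a b := mul_pow a b q
  map_zero' := zero_pow hq
  map_add' := hadd

/-- What the proofs use about `³D₄` inside the Chevalley group. -/
structure Ctx (q : ℕ) where
  sg : GL chevD4.Idx F → GL chevD4.Idx F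
  phi : GL chevD4.Idx F →* GL chevD4.Idx F
  n : Fin 2 → GL chevD4.Idx F
  S : Subgroup (GL chevD4.Idx F)
  q_two : 2 ≤ q
  card : Nat.card F = q ^ 3
  fin : Finite F
  add : ∀ t u : F, (t + u) ^ q = t ^ q + u ^ q
  per : ∀ t : F, t ^ (q ^ 3) = t
  S_eq : S = twistedD4 F q
  S_le : S ≤ chevD4.group F
  sg_mul : ∀ a ∈ chevD4.group F, ∀ b ∈ chevD4.group F, sg (a * b) = sg a * sg b
  sg_x : ∀ r < 24, ∀ t : F, sg (xg chevD4 F r t) = xg chevD4 F (rho r) ((eps r : F) * t ^ q)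
  fixed : ∀ g ∈ S, sg g = g
  full : ∀ g ∈ XS chevD4 F (htGe chevD4 1), sg g = g → g ∈ S
  phi_eq : ∀ g : GL chevD4.Idx F, phi g = g ↔
    ∀ i j, ((g : Matrix chevD4.Idx chevD4.Idx F) i j) ^ q = (g : Matrix chevD4.Idx chevD4.Idx F) i j
  phi_x : ∀ r < 24, ∀ t : F, phi (xg chevD4 F r t) = xg chevD4 F r (t ^ q)
  sep : ∀ r < 24, ∀ s < 24, ∀ a b : F, a ≠ 0 → xg chevD4 F r a = xg chevD4 F s b → r = s
  n_mem : ∀ k, n k ∈ S
  n_fix : ∀ k, phi (n k) = n k
  n_conj : ∀ k, ∀ r < 24, ∃ e : F, e ≠ 0 ∧ e ^ q = e ∧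
    ∀ t : F, n k * xg chevD4 F r t * (n k)⁻¹ = xg chevD4 F (wref k r) (e * t)
  torus : ∀ a b : Fˣ, b ^ q = b → ∃ h ∈ S,
    (∀ t : F, h * xg chevD4 F 18 t * h⁻¹ = xg chevD4 F 18 ((a : F) ^ 2 * ((b : F))⁻¹ * t)) ∧
    (∀ r < 24, ∃ e : F, e ≠ 0 ∧ ∀ t : F, h * xg chevD4 F r t * h⁻¹ = xg chevD4 F r (e * t)) ∧
    (a ^ q = a → phi h = h)
  Hd : Subgroup (GL chevD4.Idx F)
  Hd_data : ∀ h ∈ Hd, h ∈ S ∧
    (∀ r < 24, ∃ e : F, e ≠ 0 ∧ ∀ t : F, h * xg chevD4 F r t * h⁻¹ = xg chevD4 F r (e * t)) ∧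
    (∃ a b : Fˣ, b ^ q = b ∧
      (∀ t : F, h * xg chevD4 F 18 t * h⁻¹ = xg chevD4 F 18 ((a : F) ^ 2 * ((b : F))⁻¹ * t)) ∧
      (a ^ q = a → phi h = h))
  bruhat : ∀ g ∈ S, ∃ u ∈ S, u ∈ XS chevD4 F (htGe chevD4 1) ∧ ∃ W : List (Fin 2), ∃ v ∈ S,
    v ∈ XS chevD4 F (htGe chevD4 1) ∧ ∃ h ∈ Hd, g = u * nWord F n W * (v * h)
  perm_eq : ∀ W W' : List (Fin 2), (∀ r < 24, wact W r = wact W' r) →
    ∃ h ∈ Hd, nWord F n W = nWord F n W' * h

variable {F}

open Twisted in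
/-- The context exists. -/
theorem exists_ctx [Fintype F] {q : ℕ} (hq : IsPrimePow q) (hK : Fintype.card F = q ^ 3) :
    Nonempty (Ctx F q) := by
  classical
  obtain ⟨hadd, -, hper⟩ := qpow_hom hq hK
  have hU := uGoodD4
  have hG := hU.toCommGood.toGood
  have hC := ChevCore.commGoodD4
  have Z := TypeD4.frame₀ (F := F) hq hK
  have X := TypeD4.gens Z hq hK
  set K := relsOfCommGood ChevCore.commGoodD4 F
  have hS : twistedD4 F q = (genG TypeD4.MT K (d4Words F q)).map (chevD4.group F).subtype :=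
    (genG_map (T := TypeD4.MT) (K := K) _).symm
  have hx : ∀ (r : Fin TypeD4.MT.tab.n) (t : F),
      (((TypeD4.MT.rel K).x r t : ↥(chevD4.group F)) : GL chevD4.Idx F) = xg chevD4 F r.val t :=
    fun r t => Units.ext (by rw [hG.val_xg]; rfl)
  have hmem : ∀ g : ↥(chevD4.group F), g ∈ genG TypeD4.MT K (d4Words F q) →
      (g : GL chevD4.Idx F) ∈ twistedD4 F q := fun g hg => hS ▸ ⟨g, hg, rfl⟩
  have hUmap : (TypeD4.MT.rel K).U.map (chevD4.group F).subtype = XS chevD4 F (htGe chevD4 1) := by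
    rw [Model.U_map, hG.posUnipotent_eq]
  have hUmem : ∀ g : ↥(chevD4.group F), g ∈ (TypeD4.MT.rel K).U →
      (g : GL chevD4.Idx F) ∈ XS chevD4 F (htGe chevD4 1) := fun g hg => hUmap ▸ ⟨g, hg, rfl⟩
  let φ : F →+* F := qHom F hq.pos.ne' hadd
  have hphi : ∀ g : GL chevD4.Idx F, Matrix.GeneralLinearGroup.map φ g = g ↔
      ∀ i j, ((g : Matrix chevD4.Idx chevD4.Idx F) i j) ^ q =
        (g : Matrix chevD4.Idx chevD4.Idx F) i j := by
    intro g
    constructor
    · intro h i j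
      have h' := congrArg (fun A : GL chevD4.Idx F => (A : Matrix chevD4.Idx chevD4.Idx F)) h
      exact congrFun (congrFun h' i) j
    · intro h
      exact Units.ext (Matrix.ext h)
  have hfrob : ∀ g : ↥(chevD4.group F),
      Chev54.frobG hC φ g = g → Matrix.GeneralLinearGroup.map φ (g : GL chevD4.Idx F) = g :=
    fun g h => congrArg Subtype.val h
  have hφeq : ∀ x : F, φ x = x ^ q := fun _ => rfl
  have hfix1 : φ (1 : F) = 1 := map_one φ
  have hfixm : φ (-1 : F) = -1 := by rw [map_neg, map_one]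
  have hnfix : ∀ k, Chev54.frobG hC φ (TypeD4.nj Z k) = TypeD4.nj Z k := by
    intro k
    show Chev54.frobG hC φ (Z.og k 1 * Z.ogn k (-1) * Z.og k 1) = _
    have h1 : ∀ (L : List (Fin TypeD4.MT.tab.n)) (f : Fin TypeD4.MT.tab.n → Fin TypeD4.MT.tab.n) (c : F),
        φ c = c → Chev54.frobG hC φ ((L.map fun r => (TypeD4.MT.rel K).x (f r) c).prod) =
          (L.map fun r => (TypeD4.MT.rel K).x (f r) c).prod := by
      intro L f c hc
      rw [map_list_prod, List.map_map]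
      refine congrArg List.prod (List.map_congr_left fun r _ => ?_)
      show Chev54.frobG hC φ ((TypeD4.MT.rel K).x (f r) c) = _
      rw [Chev54.frobG_x, hc]
    rw [map_mul, map_mul]
    congr 1
    · congr 1
      · exact h1 _ id 1 hfix1
      · exact h1 _ (TypeD4.MT.S).neg (-1) hfixm
    · exact h1 _ id 1 hfix1
  let n : Fin 2 → GL chevD4.Idx F := fun k => (TypeD4.nj Z k : GL chevD4.Idx F)
  have hwref : ∀ (k : Fin 2) (r : Fin 24),
      ((TypeD4.MT.S).actw (TypeD4.fd.O.wd k) r).val = wref k r.val := by decide +kernel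
  have hnW : ∀ W : List (Fin 2), nWord F n W = ((X.data.nW W : ↥(chevD4.group F)) : GL chevD4.Idx F) := by
    intro W
    induction W with
    | nil => rfl
    | cons k W ih =>
      show (n k) * nWord F n W = _
      rw [ih, X.data.nW_cons]
      rfl
  have hwact : ∀ (W : List (Fin 2)) (r : Fin TypeD4.MT.tab.n),
      ((TypeD4.MT.S).actw (X.data.aw W) r).val = wact W r.val := by
    intro W
    induction W with
    | nil => intro r; rfl
    | cons k W ih =>
      intro r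
      rw [X.data.aw_cons, (TypeD4.MT.S).actw_append, wact_cons, ← ih r]
      exact hwref k _
  have hHscale : ∀ h : ↥(chevD4.group F), h ∈ (TypeD4.MT.rel K).H → ∀ r < 24, ∃ e : F, e ≠ 0 ∧
      ∀ t : F, (h : GL chevD4.Idx F) * xg chevD4 F r t * (h : GL chevD4.Idx F)⁻¹ =
        xg chevD4 F r (e * t) := by
    intro h hh r hr
    obtain ⟨c, rfl⟩ := Z.exists_tor TypeD4.torOk hh
    refine ⟨_, (chi TypeD4.MT c ⟨r, hr⟩).ne_zero, fun t => ?_⟩
    rw [← hx ⟨r, hr⟩ t, ← hx ⟨r, hr⟩, ← Subgroup.coe_inv, ← Subgroup.coe_mul, ← Subgroup.coe_mul,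
      Z.tor_conj]
  have htor : ∀ a b : Fˣ,
      (∀ t : F, ((tor TypeD4.MT K (TypeD4.cvec q a b) : ↥(chevD4.group F)) : GL chevD4.Idx F) *
          xg chevD4 F 18 t *
          ((tor TypeD4.MT K (TypeD4.cvec q a b) : ↥(chevD4.group F)) : GL chevD4.Idx F)⁻¹ =
        xg chevD4 F 18 ((a : F) ^ 2 * ((b : F))⁻¹ * t)) ∧
      (b ^ q = b → a ^ q = a → Matrix.GeneralLinearGroup.map φ
          ((tor TypeD4.MT K (TypeD4.cvec q a b) : ↥(chevD4.group F)) : GL chevD4.Idx F) =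
        ((tor TypeD4.MT K (TypeD4.cvec q a b) : ↥(chevD4.group F)) : GL chevD4.Idx F)) := by
    intro a b
    obtain ⟨v18, -, -, -⟩ := TypeD4.chi_val (F := F) (TypeD4.cvec q a b)
    obtain ⟨e0, e1, e2, e3⟩ := TypeD4.cvec_val q a b
    refine ⟨fun t => ?_, fun hb ha => hfrob _ ?_⟩
    · rw [show xg chevD4 F 18 t =
          (((TypeD4.MT.rel K).x (18 : Fin TypeD4.MT.tab.n) t : ↥(chevD4.group F)) : GL chevD4.Idx F)
        from (hx 18 t).symm, ← Subgroup.coe_inv, ← Subgroup.coe_mul, ← Subgroup.coe_mul, Z.tor_conj, hx]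
      refine congrArg₂ (xg chevD4 F) rfl (congrArg (· * t) ?_)
      rw [v18]; simp only [e0, e1]; simp [zpow_ofNat]
    · have hc : ∀ j, φ (TypeD4.cvec q a b j : F) = (TypeD4.cvec q a b j : F) := by
        have ha' : (a : F) ^ q = a := by rw [← Units.val_pow_eq_pow_val, ha]
        have ha2 : (a : F) ^ q ^ 2 = a := by rw [pow_two, pow_mul, ha', ha']
        have hb' : (b : F) ^ q = b := by rw [← Units.val_pow_eq_pow_val, hb]
        intro j
        match j with
        | 0 => rw [hφeq, e0, ha']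
        | 1 => rw [hφeq, e1, hb']
        | 2 => rw [hφeq, e2, Units.val_pow_eq_pow_val, ha', ha']
        | 3 => rw [hφeq, e3, Units.val_pow_eq_pow_val, ha2, ha']
      rw [tor, map_list_prod, List.map_map]
      refine congrArg List.prod (List.map_congr_left fun i _ => ?_)
      show Chev54.frobG hC φ (RootRel.nr (TypeD4.MT.rel K) _ _ * RootRel.nr (TypeD4.MT.rel K) _ _) = _
      rw [map_mul, Chev54.frobG_nr, Chev54.frobG_nr, hc, hfixm]
      rfl
  have hH1 : ∀ h : ↥(chevD4.group F), h ∈ genG TypeD4.MT K (d4Words F q) →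
      h ∈ (TypeD4.MT.rel K).H →
      ∃ a b : Fˣ, b ^ q = b ∧
        (∀ t : F, (h : GL chevD4.Idx F) * xg chevD4 F 18 t * (h : GL chevD4.Idx F)⁻¹ =
          xg chevD4 F 18 ((a : F) ^ 2 * ((b : F))⁻¹ * t)) ∧
        (a ^ q = a → Matrix.GeneralLinearGroup.map φ (h : GL chevD4.Idx F) = h) := by
    intro h hg hh
    obtain ⟨c, hc, rfl⟩ : ∃ c, Z.sig TypeD4.pre c = c ∧ tor TypeD4.MT K c = h := by
      let f : ↥(Z.fixedPar TypeD4.pre) → ↥X.data.H1 := fun c =>
        ⟨tor TypeD4.MT K c.1, Subgroup.mem_inf.2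
          ⟨TypeD4.torus_mem Z hq hK c.1 ((Z.mem_fixedPar).1 c.2), Z.tor_mem_H c.1⟩⟩
      have hf : Function.Bijective f := by
        refine (Nat.bijective_iff_injective_and_card f).2 ⟨fun c c' e => Subtype.ext ?_,
          (TypeD4.card_fixedPar Z hq hK).trans (TypeD4.card_H1 Z hq hK).symm⟩
        have e' : tor TypeD4.MT K c.1 = tor TypeD4.MT K c'.1 := congrArg Subtype.val e
        refine mul_inv_eq_one.1 (TypeD4.ker_fixed Z hq hK (c := c.1 * c'.1⁻¹) ?_ ?_)
        · rw [map_mul, map_inv, (Z.mem_fixedPar).1 c.2, (Z.mem_fixedPar).1 c'.2]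
        · rw [← Z.torHom_apply, map_mul, map_inv, Z.torHom_apply, Z.torHom_apply, e', mul_inv_cancel]
      obtain ⟨c, hc⟩ := hf.2 ⟨h, Subgroup.mem_inf.2 ⟨hg, hh⟩⟩
      exact ⟨c.1, (Z.mem_fixedPar).1 c.2, congrArg Subtype.val hc⟩
    obtain ⟨e0, e1, e2, e3⟩ := TypeD4.cvec_val q (c 0) (c 1)
    have hs : ∀ j, c (TypeD4.pre j) ^ q = c j := fun j => by rw [← TypeD4.sig_apply Z, hc]
    have hcv : c = TypeD4.cvec q (c 0) (c 1) := by
      funext j
      match j with
      | 0 => exact e0.symm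
      | 1 => exact e1.symm
      | 2 => rw [e2]; exact (hs 2).symm
      | 3 =>
        rw [e3, pow_two, pow_mul, show c 0 ^ q = c 2 from hs 2]
        exact (hs 3).symm
    have hb : c 1 ^ q = c 1 := hs 1
    refine ⟨c 0, c 1, hb, ?_, fun ha => ?_⟩
    · have := (htor (c 0) (c 1)).1
      rwa [← hcv] at this
    · have := (htor (c 0) (c 1)).2 hb ha
      rwa [← hcv] at this
  refine ⟨{
    sg := fun g => if h : g ∈ chevD4.group F then ((Z.σ ⟨g, h⟩ : ↥(chevD4.group F)) : GL chevD4.Idx F) else 1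
    phi := Matrix.GeneralLinearGroup.map φ
    n := n
    S := twistedD4 F q
    q_two := hq.two_le
    card := by rw [Nat.card_eq_fintype_card, hK]
    fin := inferInstance
    add := hadd
    per := hper
    S_eq := rfl
    S_le := ?_, sg_mul := ?_, sg_x := ?_, fixed := ?_, full := ?_, phi_eq := hphi, phi_x := ?_,
    sep := fun r hr s hs a b ha e => congrArg Fin.val (Chev54.x_root_sep TypeD4.MT K
      (r := ⟨r, hr⟩) (s := ⟨s, hs⟩) (a := a) (b := b) (Subtype.ext (by rw [hx, hx]; exact e)) ha).symm,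
    n_mem := fun k => hmem _ (X.nj_mem k), n_fix := fun k => hfrob _ (hnfix k), n_conj := ?_,
    torus := ?_, Hd := X.data.H1.map (chevD4.group F).subtype, Hd_data := ?_, bruhat := ?_, perm_eq := ?_ }⟩
  · rw [hS]
    rintro _ ⟨g, -, rfl⟩
    exact g.2
  · intro a ha b hb
    rw [dif_pos (mul_mem ha hb), dif_pos ha, dif_pos hb, ← Subgroup.coe_mul, ← map_mul]
    rfl
  · intro r hr t
    rw [dif_pos (hG.xg_mem_group r t)]
    let r' : Fin TypeD4.MT.tab.n := ⟨r, hr⟩
    rw [show (⟨xg chevD4 F r t, hG.xg_mem_group r t⟩ : ↥(chevD4.group F)) = (TypeD4.MT.rel K).x r' t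
      from Subtype.ext (hx r' t).symm, Z.σ_x, hx]
    have hdat : ∀ r : Fin 24, (TypeD4.fd.O.rho r).val = rho r.val ∧ TypeD4.PP.ef r.val = eps r.val ∧
        ChevIsogeny.IsoData.lf TypeD4.PP r.val = 1 := by decide +kernel
    obtain ⟨h1, h2, h3⟩ := hdat r'
    have h1' : (TypeD4.fd.O.rho r').val = rho r := h1
    rw [h1', h2, show ChevIsogeny.IsoHyp.lam TypeD4.PP q r'.val =
      ChevIsogeny.IsoData.lf TypeD4.PP r'.val * q from rfl, h3, one_mul]
  · intro g hg
    rw [hS] at hg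
    obtain ⟨g, hg, rfl⟩ := hg
    rw [dif_pos (show (chevD4.group F).subtype g ∈ chevD4.group F from g.2)]
    exact congrArg (fun y : ↥(chevD4.group F) => (y : GL chevD4.Idx F)) (X.fixed g hg)
  · intro g hg hfix
    rw [← hUmap] at hg
    obtain ⟨g, hg, rfl⟩ := hg
    rw [dif_pos (show (chevD4.group F).subtype g ∈ chevD4.group F from g.2)] at hfix
    exact hmem g (X.data.mem_U1_of_fixed (TypeD4.MT.shapeR K) (X.longest TypeD4.long_ok) hg
      (Subtype.ext hfix)).1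
  · intro r hr t
    rw [← hx ⟨r, hr⟩ t, ← hx ⟨r, hr⟩ (t ^ q)]
    exact congrArg Subtype.val (Chev54.frobG_x TypeD4.MT hC φ ⟨r, hr⟩ t)
  · intro k r hr
    obtain ⟨h, hh, e⟩ := X.nj_coset k
    obtain ⟨a, ha, h1⟩ := (TypeD4.MT.rel K).nw_conj (TypeD4.fd.O.wd k) ⟨r, hr⟩
    obtain ⟨c, hc, h2⟩ : ∃ c : F, c ≠ 0 ∧ ∀ t : F, (h : GL chevD4.Idx F) *
        xg chevD4 F (wref k r) t * (h : GL chevD4.Idx F)⁻¹ = xg chevD4 F (wref k r) (c * t) :=
      hHscale h hh _ (wref_lt k hr)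
    have hconj : ∀ t : F, n k * xg chevD4 F r t * (n k)⁻¹ = xg chevD4 F (wref k r) (c * a * t) := by
      intro t
      have h1' := congrArg Subtype.val (h1 t)
      simp only [Subgroup.coe_mul, Subgroup.coe_inv, hx] at h1'
      rw [show ((TypeD4.MT.S).actw (TypeD4.fd.O.wd k) ⟨r, hr⟩).val = wref k r from
        hwref k ⟨r, hr⟩] at h1'
      rw [mul_assoc c a t, ← h2, ← h1']
      show (TypeD4.nj Z k : GL chevD4.Idx F) * _ * ((TypeD4.nj Z k : GL chevD4.Idx F))⁻¹ = _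
      rw [e, Subgroup.coe_mul]
      simp only [K]
      group
    have hne : c * a ≠ 0 := by
      refine mul_ne_zero hc ?_
      rintro rfl
      simp at ha
    refine ⟨c * a, hne, ?_, hconj⟩
    have h3 := congrArg (Matrix.GeneralLinearGroup.map φ) (hconj 1)
    rw [map_mul, map_mul, map_inv, show Matrix.GeneralLinearGroup.map φ (n k) = n k from
      hfrob _ (hnfix k)] at h3
    have hφx : ∀ (r : ℕ), r < 24 → ∀ t : F, Matrix.GeneralLinearGroup.map φ (xg chevD4 F r t) =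
        xg chevD4 F r (t ^ q) := by
      intro r hr t
      rw [← hx ⟨r, hr⟩ t, ← hx ⟨r, hr⟩ (t ^ q)]
      exact congrArg Subtype.val (Chev54.frobG_x TypeD4.MT hC φ ⟨r, hr⟩ t)
    rw [hφx r hr, hφx _ (wref_lt k hr), one_pow, hconj, mul_one] at h3
    exact (hG.xg_injective (wref_lt k hr) h3).symm
  · intro a b hb
    have hc := TypeD4.sig_cvec Z hq hK a b hb
    have hh := TypeD4.torus_mem Z hq hK _ hc
    exact ⟨_, hmem _ hh, (htor a b).1, hHscale _ (Z.tor_mem_H _), fun ha => (htor a b).2 hb ha⟩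
  · rintro _ ⟨h, hh, rfl⟩
    exact ⟨hmem h hh.1, hHscale h hh.2, hH1 h hh.1 hh.2⟩
  · intro g hg
    rw [hS] at hg
    obtain ⟨g, hg, rfl⟩ := hg
    have M := TypeD4.MT.shapeR K
    have h0 := X.longest TypeD4.long_ok
    obtain ⟨W, hW⟩ := X.data.exists_bruhat M h0 X.split hg
    obtain ⟨b, hb, e⟩ := mem_cell.1 hW
    rw [QuotientGroup.eq] at e
    obtain ⟨u, hu, h, hh, eb⟩ := X.data.exists_U1_H1 M h0 hb
    obtain ⟨v, hv, h', hh', ev⟩ := X.data.exists_U1_H1 M h0 e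
    obtain ⟨v2, hv2, h2, hh2, e2⟩ : ∃ v2 ∈ X.data.U1, ∃ h2 ∈ X.data.H1,
        h * X.data.nW W * (v * h') = X.data.nW W * (v2 * h2) := by
      have hmv : (X.data.nW W)⁻¹ * h * X.data.nW W ∈ X.data.H1 := by
        clear hW e ev eb
        induction W generalizing h with
        | nil => simpa using hh
        | cons k W ih =>
          have := ih _ (X.data.nJ_inv_conj_H1 k hh)
          simpa [mul_assoc] using this
      obtain ⟨v2, hv2, h2, hh2, e2⟩ := X.data.exists_U1_H1 M h0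
        (mul_mem (X.data.H1_le_B1 hmv) (mul_mem (X.data.U1_le_B1 hv) (X.data.H1_le_B1 hh')))
      exact ⟨v2, hv2, h2, hh2, by rw [e2]; group⟩
    have hg' : g = u * X.data.nW W * (v2 * h2) := by
      rw [mul_assoc u, ← e2, ev, ← eb]
      group
    refine ⟨_, hmem u hu.1, hUmem u hu.2, W, _, hmem v2 hv2.1, hUmem v2 hv2.2,
      (h2 : GL chevD4.Idx F), ⟨h2, hh2, rfl⟩, ?_⟩
    rw [hnW, ← Subgroup.coe_mul, ← Subgroup.coe_mul, ← Subgroup.coe_mul]
    exact congrArg Subtype.val hg'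
  · intro W W' hW
    have hh := X.data.mem_H1_of_perm (A := W) (B := W') fun r => Fin.ext (by
      exact (hwact W r).trans ((hW r.val r.isLt).trans (hwact W' r).symm))
    refine ⟨_, ⟨_, hh, rfl⟩, ?_⟩
    rw [hnW, hnW, Subgroup.subtype_apply, ← Subgroup.coe_mul, mul_inv_cancel_left]

end Cfsg.Agent.D4SubMax
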