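import Cfsg.Agent.D4SubMax.Layers

/-!
The commutators of the orbit root elements modulo the fourth layer.
-/

set_option autoImplicit false

namespace Cfsg.Agent.D4SubMax

open Cfsg.Lie Cfsg.Agent.ChevCore Cfsg.Agent.Chev54

variable {F : Type*} [Field F] {q : ℕ}

local notation "x" => xg chevD4 F

/-- The commutator in the form used here. -/
def br {G : Type*} [Group G] (a b : G) : G := a * b * a⁻¹ * b⁻¹

theorem br_mul_left {G : Type*} [Group G] (a a' b : G) :
    br (a * a') b = a * br a' b * a⁻¹ * br a b := by simp [br]; group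

theorem br_mul_right {G : Type*} [Group G] (a b b' : G) :
    br a (b * b') = br a b * (b * br a b' * b⁻¹) := by simp [br]; group

theorem br_mul_eq {G : Type*} [Group G] (a b : G) : br a b * b = a * b * a⁻¹ := by simp [br]

/-- Commutation of roots `r`, `s`. -/
theorem br_zero {r s : ℕ} (h : r < 24 ∧ s < 24 ∧ s ≠ r ∧ s ≠ chevD4.neg r ∧ chevD4.commTerms r s = [])
    (t u : F) : br (x r t) (x s u) = 1 := by
  rw [br, comm0 h]; group

/-- The commutator of roots `r`, `s` with sum `k`, exact. -/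
theorem br_exact {r s k : ℕ} {M : ℤ}
    (h : r < 24 ∧ s < 24 ∧ s ≠ r ∧ s ≠ chevD4.neg r ∧ chevD4.commTerms r s = [(k, M, 1, 1)])
    (hr : r < 24 ∧ k < 24 ∧ k ≠ r ∧ k ≠ chevD4.neg r ∧ chevD4.commTerms r k = [])
    (hs : s < 24 ∧ k < 24 ∧ k ≠ s ∧ k ≠ chevD4.neg s ∧ chevD4.commTerms s k = [])
    (t u : F) : br (x r t) (x s u) = x k ((M : F) * t * u) := by
  set z := x k ((M : F) * t * u) with hz
  have h1 : x r t * x s u = x s u * x r t * z := comm1 h t u
  have h2 : x r t * z = z * x r t := comm0 hr t _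
  have h3 : x s u * z = z * x s u := comm0 hs u _
  rw [br, h1, mul_assoc (x s u), h2]
  calc x s u * (z * x r t) * (x r t)⁻¹ * (x s u)⁻¹ = x s u * z * (x s u)⁻¹ := by group
    _ = z := by rw [h3]; group

theorem vec3_single {k : ℕ} (hk : k < 24) (hh : ht chevD4 k = 3) (u : F) :
    Vec 3 (x k u) (Pi.single k u) :=
  hh ▸ vec_xg good (D := chevD4) hk (by omega) u

theorem vec3_br {r s k : ℕ} {M : ℤ}
    (h : r < 24 ∧ s < 24 ∧ s ≠ r ∧ s ≠ chevD4.neg r ∧ chevD4.commTerms r s = [(k, M, 1, 1)])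
    (hr : r < 24 ∧ k < 24 ∧ k ≠ r ∧ k ≠ chevD4.neg r ∧ chevD4.commTerms r k = [])
    (hs : s < 24 ∧ k < 24 ∧ k ≠ s ∧ k ≠ chevD4.neg s ∧ chevD4.commTerms s k = [])
    (hh : ht chevD4 k = 3) (t u : F) :
    Vec 3 (br (x r t) (x s u)) (Pi.single k ((M : F) * t * u)) := by
  rw [br_exact h hr hs]
  exact vec3_single hr.2.1 hh _

theorem vec3_zero {r s : ℕ} (h : r < 24 ∧ s < 24 ∧ s ≠ r ∧ s ≠ chevD4.neg r ∧ chevD4.commTerms r s = [])
    (t u : F) : Vec 3 (br (x r t) (x s u)) (fun _ => 0) := by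
  rw [br_zero h]
  exact vec_of_next good (one_mem _)

theorem h1_3 : (1 : ℤ) ≤ 3 := by norm_num

namespace Ctx

variable (C : Ctx F q)
include C

/-- `[x_b(s), X_A(c)]` is `X_C(sc) X_D(−s c^(q+q²))` modulo the fourth layer. -/
theorem bracketBA {s : F} (hs : s ^ q = s) (c : F) :
    ∃ w ∈ Um F 4, w ∈ C.S ∧
      br (x 14 s) (XA q c) = XC q (s * c) * XD q (-(s * (c ^ q * c ^ (q ^ 2)))) * w := by
  set c' := c ^ q
  set c'' := c ^ (q ^ 2)
  set a1 := x 18 c
  set a2 := x 13 c'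
  set a3 := x 12 c''
  set b1 := x 19 (s * c) with hb1
  set b2 := x 16 (-(s * c')) with hb2
  set b3 := x 15 (-(s * c'')) with hb3
  have e1 : br (x 14 s) a1 = b1 := by
    rw [br_exact (k := 19) (M := 1) (by decide +kernel) (by decide +kernel) (by decide +kernel)]
    simp [hb1]
  have e2 : br (x 14 s) a2 = b2 := by
    rw [br_exact (k := 16) (M := -1) (by decide +kernel) (by decide +kernel) (by decide +kernel)]
    simp [hb2]
  have e3 : br (x 14 s) a3 = b3 := by
    rw [br_exact (k := 15) (M := -1) (by decide +kernel) (by decide +kernel) (by decide +kernel)]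
    simp [hb3]
  have hXC : XC q (s * c) = b1 * b2 * b3 := by
    rw [XC, hb1, hb2, hb3, mul_pow, mul_pow, hs,
      show s ^ (q ^ 2) = s by rw [pow_two, pow_mul, hs, hs]]
  have hK : br (x 14 s) (XA q c) = b1 * (a1 * b2 * a1⁻¹) * ((a1 * a2) * b3 * (a1 * a2)⁻¹) := by
    show br (x 14 s) (a1 * a2 * a3) = _
    rw [br_mul_right, br_mul_right, e1, e2, e3]
  have hK' : (XC q (s * c))⁻¹ * br (x 14 s) (XA q c) =
      ((b2 * b3)⁻¹ * br a1 b2 * ((b2 * b3)⁻¹)⁻¹) * (b3⁻¹ * br (a1 * a2) b3 * (b3⁻¹)⁻¹) := by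
    rw [hK, hXC, ← br_mul_eq a1 b2, ← br_mul_eq (a1 * a2) b3]
    group
  have hU : ∀ r : ℕ, r < 24 → 1 ≤ ht chevD4 r → ∀ u : F, x r u ∈ Um F 1 :=
    fun r hr h u => xg_mem_Um hr h u
  have hb2U : b2 ∈ Um F 1 := hU 16 (by norm_num) (by decide +kernel) _
  have hb3U : b3 ∈ Um F 1 := hU 15 (by norm_num) (by decide +kernel) _
  have ha1U : a1 ∈ Um F 1 := hU 18 (by norm_num) (by decide +kernel) _
  have v12 : Vec 3 (br a1 b2) (Pi.single 21 (((chevD4.chainM 18 16 1 : ℤ) : F) * c * -(s * c'))) :=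
    vec3_br (by decide +kernel) (by decide +kernel) (by decide +kernel) (by decide +kernel) _ _
  have v13 : Vec 3 (br a1 b3) (Pi.single 20 (((chevD4.chainM 18 15 1 : ℤ) : F) * c * -(s * c''))) :=
    vec3_br (by decide +kernel) (by decide +kernel) (by decide +kernel) (by decide +kernel) _ _
  have v23 : Vec 3 (br a2 b3) (Pi.single 17 (((1 : ℤ) : F) * c' * -(s * c''))) :=
    vec3_br (by decide +kernel) (by decide +kernel) (by decide +kernel) (by decide +kernel) _ _
  have vb : Vec 3 (br (a1 * a2) b3) _ :=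
    br_mul_left a1 a2 b3 ▸ (v23.conj good h1_3 ha1U).mul good h1_3 v13
  have vK := ((v12.conj good h1_3 (inv_mem (mul_mem hb2U hb3U))).mul good h1_3
    (vb.conj good h1_3 (inv_mem hb3U)))
  rw [← hK'] at vK
  have hA := C.XA_mem c
  have hB := C.xg_mem 14 (by simp) hs
  have hS : (XC q (s * c))⁻¹ * br (x 14 s) (XA q c) ∈ C.S :=
    mul_mem (inv_mem (C.XC_mem _)) (mul_mem (mul_mem (mul_mem hB hA) (inv_mem hB)) (inv_mem hA))
  obtain ⟨e, he, hw⟩ := C.split3 hS (vK.mem good)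
  have : e = -(s * (c' * c'')) := by
    rw [← he _ vK]
    simp [mul_left_comm]
  subst this
  exact ⟨_, hw, mul_mem (inv_mem (C.XD_mem _)) hS, by group⟩

/-- `[X_A(c), X_C(d)]` is `X_D(−c^q d^(q²) − c^(q²) d^q)` modulo the fourth layer. -/
theorem bracketAC (c d : F) :
    ∃ w ∈ Um F 4, w ∈ C.S ∧
      br (XA q c) (XC q d) = XD q (-(c ^ q * d ^ (q ^ 2) + c ^ (q ^ 2) * d ^ q)) * w := by
  set c' := c ^ q
  set c'' := c ^ (q ^ 2)
  set a1 := x 18 c
  set a2 := x 13 c'
  set a3 := x 12 c''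
  set b1 := x 19 d
  set b2 := x 16 (-(d ^ q))
  set b3 := x 15 (-(d ^ (q ^ 2)))
  have hU : ∀ r : ℕ, r < 24 → 1 ≤ ht chevD4 r → ∀ u : F, x r u ∈ Um F 1 :=
    fun r hr h u => xg_mem_Um hr h u
  have hb1U : b1 ∈ Um F 1 := hU 19 (by norm_num) (by decide +kernel) _
  have hb2U : b2 ∈ Um F 1 := hU 16 (by norm_num) (by decide +kernel) _
  have ha1U : a1 ∈ Um F 1 := hU 18 (by norm_num) (by decide +kernel) _
  have ha2U : a2 ∈ Um F 1 := hU 13 (by norm_num) (by decide +kernel) _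
  have row : ∀ (b : GL chevD4.Idx F) (d1 d2 d3 : ℕ → F), Vec 3 (br a1 b) d1 → Vec 3 (br a2 b) d2 →
      Vec 3 (br a3 b) d3 → Vec 3 (br (a1 * a2 * a3) b) (d3 + (d2 + d1)) := by
    intro b d1 d2 d3 h1 h2 h3
    rw [br_mul_left, br_mul_left]
    exact (h3.conj good h1_3 (mul_mem ha1U ha2U)).mul good h1_3 ((h2.conj good h1_3 ha1U).mul good h1_3 h1)
  have r1 := row b1 _ _ _
    (vec3_zero (r := 18) (s := 19) (by decide +kernel) _ _)
    (vec3_br (r := 13) (s := 19) (k := 21) (M := chevD4.chainM 13 19 1) (by decide +kernel)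
      (by decide +kernel) (by decide +kernel) (by decide +kernel) _ _)
    (vec3_br (r := 12) (s := 19) (k := 20) (M := chevD4.chainM 12 19 1) (by decide +kernel)
      (by decide +kernel) (by decide +kernel) (by decide +kernel) _ _)
  have r2 := row b2 _ _ _
    (vec3_br (r := 18) (s := 16) (k := 21) (M := chevD4.chainM 18 16 1) (by decide +kernel)
      (by decide +kernel) (by decide +kernel) (by decide +kernel) _ _)
    (vec3_zero (r := 13) (s := 16) (by decide +kernel) _ _)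
    (vec3_br (r := 12) (s := 16) (k := 17) (M := 1) (by decide +kernel)
      (by decide +kernel) (by decide +kernel) (by decide +kernel) _ _)
  have r3 := row b3 _ _ _
    (vec3_br (r := 18) (s := 15) (k := 20) (M := chevD4.chainM 18 15 1) (by decide +kernel)
      (by decide +kernel) (by decide +kernel) (by decide +kernel) _ _)
    (vec3_br (r := 13) (s := 15) (k := 17) (M := 1) (by decide +kernel)
      (by decide +kernel) (by decide +kernel) (by decide +kernel) _ _)
    (vec3_zero (r := 12) (s := 15) (by decide +kernel) _ _)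
  have e : br (XA q c) (XC q d) = br (a1 * a2 * a3) b1 * (b1 * br (a1 * a2 * a3) b2 * b1⁻¹) *
      (b1 * b2 * br (a1 * a2 * a3) b3 * (b1 * b2)⁻¹) := by
    show br (a1 * a2 * a3) (b1 * b2 * b3) = _
    rw [br_mul_right, br_mul_right]
  have vK := (r1.mul good h1_3 (r2.conj good h1_3 hb1U)).mul good h1_3
    (r3.conj good h1_3 (mul_mem hb1U hb2U))
  rw [← e] at vK
  have hA := C.XA_mem c
  have hC := C.XC_mem d
  have hS : br (XA q c) (XC q d) ∈ C.S :=
    mul_mem (mul_mem (mul_mem hA hC) (inv_mem hA)) (inv_mem hC)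
  obtain ⟨t, ht, hw⟩ := C.split3 hS (vK.mem good)
  have : t = -(c' * d ^ (q ^ 2) + c'' * d ^ q) := by
    rw [← ht _ vK]
    simp
  subst this
  exact ⟨_, hw, mul_mem (inv_mem (C.XD_mem _)) hS, by group⟩

end Ctx

end Cfsg.Agent.D4SubMax
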