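import Cfsg.Agent.D4SubMax.Extract

/-!
Every element of `³D₄` is reached from the subfield subgroup, one short root element and the stabiliser of the
highest root group.
-/

set_option autoImplicit false

namespace Cfsg.Agent.D4SubMax

open Cfsg.Lie Cfsg.Agent.ChevCore Cfsg.Agent.Chev54

variable {F : Type*} [Field F] {q : ℕ}

local notation "x" => xg chevD4 F

/-- The representatives of the six cells. -/
def cellWord (i : Fin 6) : List (Fin 2) :=
  match i with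
  | 0 => []
  | 1 => [0]
  | 2 => [1, 0]
  | 3 => [0, 1, 0]
  | 4 => [1, 0, 1, 0]
  | 5 => [0, 1, 0, 1, 0]

/-- Words for the twelve elements of the Weyl group. -/
def weylWord (i : Fin 12) : List (Fin 2) :=
  ([[], [0], [1], [1, 0], [0, 1], [0, 1, 0], [1, 0, 1], [1, 0, 1, 0], [0, 1, 0, 1], [0, 1, 0, 1, 0],
    [1, 0, 1, 0, 1], [1, 0, 1, 0, 1, 0]] : List (List (Fin 2))).getD i.val []

theorem exists_weylWord (W : List (Fin 2)) : ∃ i : Fin 12, ∀ r : Fin 24, wact W r.val = wact (weylWord i) r.val := by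
  induction W with
  | nil => exact ⟨0, fun r => rfl⟩
  | cons k W ih =>
    obtain ⟨i, hi⟩ := ih
    have step : ∀ k : Fin 2, ∀ i : Fin 12, ∃ j : Fin 12, ∀ r : Fin 24,
        wref k (wact (weylWord i) r.val) = wact (weylWord j) r.val := by decide +kernel
    obtain ⟨j, hj⟩ := step k i
    exact ⟨j, fun r => by rw [wact_cons, hi r]; exact hj r⟩

theorem exists_cellWord (W : List (Fin 2)) : ∃ i : Fin 6, wact W 23 = wact (cellWord i) 23 := by
  obtain ⟨i, hi⟩ := exists_weylWord W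
  have : ∀ i : Fin 12, ∃ j : Fin 6, wact (weylWord i) 23 = wact (cellWord j) 23 := by decide +kernel
  obtain ⟨j, hj⟩ := this i
  exact ⟨j, (hi ⟨23, by norm_num⟩).trans hj⟩

theorem perm_of_fix {W : List (Fin 2)} (h : wact W 23 = 23) :
    (∀ r < 24, wact W r = wact [] r) ∨ (∀ r < 24, wact W r = wact [1] r) := by
  obtain ⟨i, hi⟩ := exists_weylWord W
  have : ∀ i : Fin 12, wact (weylWord i) 23 = 23 → weylWord i = [] ∨ weylWord i = [1] := by decide +kernel
  have h23 : wact (weylWord i) 23 = 23 := (hi ⟨23, by norm_num⟩).symm.trans h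
  rcases this i h23 with e | e
  · exact Or.inl fun r hr => by rw [hi ⟨r, hr⟩, e]
  · exact Or.inr fun r hr => by rw [hi ⟨r, hr⟩, e]

theorem comm22 {r : ℕ} (hr : r < 24) (h : 1 ≤ ht chevD4 r) (h14 : r ≠ 14) (t u : F) :
    x r t * x 22 u = x 22 u * x r t := by
  by_cases h22 : r = 22
  · subst h22; rw [← goodG.xg_add, ← goodG.xg_add, add_comm]
  have : ∀ r : Fin 24, 1 ≤ ht chevD4 r.val → r.val ≠ 14 → r.val ≠ 22 →
      22 ≠ chevD4.neg r.val ∧ chevD4.commTerms r.val 22 = [] := by decide +kernel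
  obtain ⟨h1, h2⟩ := this ⟨r, hr⟩ h h14 h22
  exact comm0 ⟨hr, by norm_num, Ne.symm h22, h1, h2⟩ t u

theorem comm23 {r : ℕ} (hr : r < 24) (h : 1 ≤ ht chevD4 r) (t u : F) :
    x r t * x 23 u = x 23 u * x r t := by
  by_cases h23 : r = 23
  · subst h23; rw [← goodG.xg_add, ← goodG.xg_add, add_comm]
  have : ∀ r : Fin 24, 1 ≤ ht chevD4 r.val → r.val ≠ 23 →
      23 ≠ chevD4.neg r.val ∧ chevD4.commTerms r.val 23 = [] := by decide +kernel
  obtain ⟨h1, h2⟩ := this ⟨r, hr⟩ h h23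
  exact comm0 ⟨hr, by norm_num, Ne.symm h23, h1, h2⟩ t u

theorem central23 {g : GL chevD4.Idx F} (hg : g ∈ Um F 1) (u : F) : Commute g (x 23 u) := by
  induction hg using Subgroup.closure_induction with
  | mem g hg => obtain ⟨r, t, hr, hS, rfl⟩ := hg; exact comm23 hr hS t u
  | one => exact Commute.one_left _
  | mul a b _ _ ha hb => exact ha.mul_left hb
  | inv a _ ha => exact ha.inv_left

namespace Ctx

variable (C : Ctx F q)
include C

theorem nW_mem (W : List (Fin 2)) : nWord F C.n W ∈ C.S :=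
  list_prod_mem fun y hy => by obtain ⟨k, -, rfl⟩ := List.mem_map.1 hy; exact C.n_mem k

theorem nW_fix (W : List (Fin 2)) : C.phi (nWord F C.n W) = nWord F C.n W := by
  rw [nWord, map_list_prod, List.map_map]
  exact congrArg List.prod (List.map_congr_left fun k _ => C.n_fix k)

omit C in
theorem nW_cons (n : Fin 2 → GL chevD4.Idx F) (k : Fin 2) (W : List (Fin 2)) :
    nWord F n (k :: W) = n k * nWord F n W := rfl

theorem nW_conj (W : List (Fin 2)) {r : ℕ} (hr : r < 24) : ∃ e : F, e ≠ 0 ∧ e ^ q = e ∧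
    ∀ t, nWord F C.n W * x r t * (nWord F C.n W)⁻¹ = x (wact W r) (e * t) := by
  induction W with
  | nil => exact ⟨1, one_ne_zero, one_pow q, fun t => by simp [nWord]⟩
  | cons k W ih =>
    obtain ⟨e, he, heq, h⟩ := ih
    obtain ⟨a, ha, haq, h'⟩ := C.n_conj k _ (wact_lt W hr)
    refine ⟨a * e, mul_ne_zero ha he, fix_mul haq heq, fun t => ?_⟩
    rw [nW_cons, wact_cons, mul_assoc a e t, ← h', ← h]
    group

/-- A representative moves a set of root groups into the positive part. -/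
theorem nW_back (W : List (Fin 2)) (T : Set ℕ)
    (hT : ∀ r < 24, r ∈ T → ∃ r' < 24, 1 ≤ ht chevD4 r' ∧ wact W r' = r)
    {g : GL chevD4.Idx F} (hg : g ∈ XS chevD4 F T) :
    (nWord F C.n W)⁻¹ * g * nWord F C.n W ∈ Um F 1 := by
  induction hg using Subgroup.closure_induction with
  | mem g hg =>
    obtain ⟨r, t, hr, hS, rfl⟩ := hg
    obtain ⟨r', hr', hp, rfl⟩ := hT r hr hS
    obtain ⟨e, he, -, h⟩ := C.nW_conj W hr'
    have : x (wact W r') t = nWord F C.n W * x r' (e⁻¹ * t) * (nWord F C.n W)⁻¹ := by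
      rw [h, ← mul_assoc, mul_inv_cancel₀ he, one_mul]
    rw [this, mul_assoc (nWord F C.n W)⁻¹, inv_mul_cancel_right, inv_mul_cancel_left]
    exact xg_mem_Um hr' hp _
  | one => simp
  | mul a b _ _ ha hb =>
    have := mul_mem ha hb
    rwa [show (nWord F C.n W)⁻¹ * a * nWord F C.n W * ((nWord F C.n W)⁻¹ * b * nWord F C.n W) =
      (nWord F C.n W)⁻¹ * (a * b) * nWord F C.n W by group] at this
  | inv a _ ha =>
    have := inv_mem ha
    rwa [show ((nWord F C.n W)⁻¹ * a * nWord F C.n W)⁻¹ =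
      (nWord F C.n W)⁻¹ * a⁻¹ * nWord F C.n W by group] at this

theorem nW_back_mem (W : List (Fin 2)) {g : GL chevD4.Idx F} (hg : g ∈ C.S) :
    (nWord F C.n W)⁻¹ * g * nWord F C.n W ∈ C.S :=
  mul_mem (mul_mem (inv_mem (C.nW_mem W)) hg) (C.nW_mem W)

/-- The stabiliser of the highest root group. -/
def Stab (g : GL chevD4.Idx F) : Prop :=
  g ∈ C.S ∧ ∃ e : F, e ≠ 0 ∧ e ^ q = e ∧ ∀ t, g * x 23 t * g⁻¹ = x 23 (e * t)

theorem stab_U {g : GL chevD4.Idx F} (hS : g ∈ C.S) (hU : g ∈ Um F 1) : C.Stab g :=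
  ⟨hS, 1, one_ne_zero, one_pow q, fun t => by
    rw [(central23 hU t).eq, mul_inv_cancel_right, one_mul]⟩

theorem stab_mul {g g' : GL chevD4.Idx F} (h : C.Stab g) (h' : C.Stab g') : C.Stab (g * g') := by
  obtain ⟨hS, e, he, heq, h⟩ := h
  obtain ⟨hS', e', he', heq', h'⟩ := h'
  refine ⟨mul_mem hS hS', e * e', mul_ne_zero he he', fix_mul heq heq', fun t => ?_⟩
  rw [mul_assoc e e' t, ← h, ← h']
  group

theorem x23_fix {t : F} (h : x 23 t ∈ C.S) : t ^ q = t := by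
  have := C.fixed _ h
  rw [C.sg_x 23 (by norm_num), show rho 23 = 23 from rfl, show eps 23 = 1 from rfl, Int.cast_one,
    one_mul] at this
  exact goodG.xg_injective (by norm_num [nroots_eq]) this

theorem stab_of {g : GL chevD4.Idx F} (hg : g ∈ C.S) (e : F) (he : e ≠ 0)
    (h : ∀ t, g * x 23 t * g⁻¹ = x 23 (e * t)) : C.Stab g := by
  refine ⟨hg, e, he, ?_, h⟩
  have := mul_mem (mul_mem hg (C.xg_mem 23 (by simp) (one_pow q))) (inv_mem hg)
  rw [h, mul_one] at this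
  exact C.x23_fix this

/-- Two representatives with the same image of the highest root differ by the stabiliser. -/
theorem same_cell {W W' : List (Fin 2)} (h : wact W 23 = wact W' 23) :
    C.Stab ((nWord F C.n W')⁻¹ * nWord F C.n W) := by
  obtain ⟨e, he, -, h1⟩ := C.nW_conj W (show 23 < 24 by norm_num)
  obtain ⟨e', he', -, h2⟩ := C.nW_conj W' (show 23 < 24 by norm_num)
  refine C.stab_of (mul_mem (inv_mem (C.nW_mem W')) (C.nW_mem W)) (e'⁻¹ * e)
    (mul_ne_zero (inv_ne_zero he') he) fun t => ?_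
  have e1 : x (wact W 23) (e * t) = nWord F C.n W' * x 23 (e'⁻¹ * e * t) * (nWord F C.n W')⁻¹ := by
    rw [h2, h, mul_assoc e'⁻¹, ← mul_assoc e', mul_inv_cancel₀ he', one_mul]
  rw [show (nWord F C.n W')⁻¹ * nWord F C.n W * x 23 t * ((nWord F C.n W')⁻¹ * nWord F C.n W)⁻¹ =
    (nWord F C.n W')⁻¹ * (nWord F C.n W * x 23 t * (nWord F C.n W)⁻¹) * nWord F C.n W' by group,
    h1, e1]
  group

/-- What every element is shown to be. -/
def Red (g : GL chevD4.Idx F) : Prop :=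
  ∃ m ∈ C.S, C.phi m = m ∧ ∃ (c : F) (p : GL chevD4.Idx F), C.Stab p ∧
    g = m * (XA q c * nWord F C.n (cellWord 2)) * p

theorem red_left {m g : GL chevD4.Idx F} (hm : m ∈ C.S) (hφ : C.phi m = m) (h : C.Red g) :
    C.Red (m * g) := by
  obtain ⟨m', hm', hφ', c, p, hp, rfl⟩ := h
  exact ⟨m * m', mul_mem hm hm', by rw [map_mul, hφ, hφ'], c, p, hp, by group⟩

theorem red_right {g p : GL chevD4.Idx F} (h : C.Red g) (hp : C.Stab p) : C.Red (g * p) := by
  obtain ⟨m, hm, hφ, c, p', hp', rfl⟩ := h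
  exact ⟨m, hm, hφ, c, p' * p, C.stab_mul hp' hp, by group⟩

omit C in
theorem XA_zero (hq : (0 : F) ^ q = 0) : XA q (0 : F) = 1 := by
  have h2 : (0 : F) ^ (q ^ 2) = 0 := by rw [pow_two, pow_mul, hq, hq]
  simp [XA, hq, h2, goodG.xg_zero]

theorem red_stab {p : GL chevD4.Idx F} (hp : C.Stab p) : C.Red p :=
  ⟨(nWord F C.n (cellWord 2))⁻¹, inv_mem (C.nW_mem _), by rw [map_inv, C.nW_fix], 0, p, hp, by
    rw [XA_zero C.zero_pow']; group⟩

theorem XA_neg (t : F) : (XA q t)⁻¹ = XA q (-t) := by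
  refine inv_eq_of_mul_eq_one_right ?_
  rw [← C.XA_add, add_neg_cancel, XA_zero C.zero_pow']

theorem XC_neg (t : F) : (XC q t)⁻¹ = XC q (-t) := by
  obtain ⟨k, hk, -, hA⟩ := C.nb_XA
  have h : ∀ u, XC q u = C.n 0 * XA q (k⁻¹ * u) * (C.n 0)⁻¹ := fun u => by
    rw [hA, ← mul_assoc, mul_inv_cancel₀ hk, one_mul]
  rw [h t, h (-t), mul_neg, ← C.XA_neg]
  group

theorem peelA {u : GL chevD4.Idx F} (hS : u ∈ C.S) (hU : u ∈ Um F 1) :
    ∃ c s : F, s ^ q = s ∧ (x 14 s)⁻¹ * ((XA q c)⁻¹ * u) ∈ Um F 2 := by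
  obtain ⟨s, c, hs, -, h⟩ := C.split1 hS hU
  refine ⟨c, s, hs, ?_⟩
  have hb : x 14 s ∈ Um F 1 := xg_mem_Um (by norm_num) (by decide +kernel) s
  have e : (x 14 s)⁻¹ * ((XA q c)⁻¹ * u) =
      br (x 14 s)⁻¹ (XA q c)⁻¹ * ((x 14 s * XA q c)⁻¹ * u) := by simp [br]; group
  rw [e]
  refine mul_mem ?_ h
  obtain ⟨w, hw, -, hK⟩ := C.bracketBA (C.fix_neg hs) (-c)
  rw [C.XA_neg, goodG.xg_inv, hK]
  exact mul_mem (mul_mem (C.XC_mem_U _) (Um_mono (by norm_num) (C.XD_mem_U _))) (Um_mono (by norm_num) hw)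

theorem peelB {u : GL chevD4.Idx F} (hS : u ∈ C.S) (hU : u ∈ Um F 1) :
    ∃ s : F, s ^ q = s ∧ ∃ v ∈ C.S, v ∈ XS chevD4 F {r | 1 ≤ ht chevD4 r ∧ r ≠ 14} ∧ u = x 14 s * v := by
  obtain ⟨s, c, hs, -, h⟩ := C.split1 hS hU
  refine ⟨s, hs, (x 14 s)⁻¹ * u, mul_mem (inv_mem (C.xg_mem 14 (by simp) hs)) hS, ?_, by group⟩
  have e : (x 14 s)⁻¹ * u = XA q c * ((x 14 s * XA q c)⁻¹ * u) := by group
  rw [e]
  have hmem : ∀ r, 1 ≤ ht chevD4 r → r ≠ 14 → r ∈ {r | 1 ≤ ht chevD4 r ∧ r ≠ 14} :=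
    fun r h1 h2 => Set.mem_ofPred_eq ▸ And.intro h1 h2
  refine mul_mem ?_ (XS_mono (fun r (hr : (2 : ℤ) ≤ ht chevD4 r) => hmem r (by omega) ?_) h)
  · refine mul_mem (mul_mem ?_ ?_) ?_ <;>
      exact xg_mem_XS (by norm_num [nroots_eq]) (hmem _ (by decide +kernel) (by norm_num)) _
  · rintro rfl
    have : ht chevD4 14 = 1 := by decide +kernel
    omega

theorem red_two {u : GL chevD4.Idx F} (hS : u ∈ C.S) (hU : u ∈ Um F 1) :
    C.Red (u * nWord F C.n (cellWord 2)) := by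
  obtain ⟨c, s, hs, h⟩ := C.peelA hS hU
  set u2 := (x 14 s)⁻¹ * ((XA q c)⁻¹ * u) with hu2
  have hu2S : u2 ∈ C.S :=
    mul_mem (inv_mem (C.xg_mem 14 (by simp) hs)) (mul_mem (inv_mem (C.XA_mem c)) hS)
  obtain ⟨d, -, h3⟩ := C.split2 hu2S h
  set u3 := (XC q d)⁻¹ * u2 with hu3
  have hu3S : u3 ∈ C.S := mul_mem (inv_mem (C.XC_mem d)) hu2S
  obtain ⟨e, -, h4⟩ := C.split3 hu3S h3
  set u4 := (XD q e)⁻¹ * u3 with hu4
  obtain ⟨a, b, ha, hb, e4⟩ := C.split4 (mul_mem (inv_mem (C.XD_mem e)) hu3S) h4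
  rw [← hu4] at e4
  set T : Set ℕ := {r | 1 ≤ ht chevD4 r ∧ r ≠ 22 ∧ r ∉ ([12, 13, 18] : List ℕ)}
  set v0 := x 14 s * (XC q d * XD q e)
  have hT : ∀ r : ℕ, r < 24 → 1 ≤ ht chevD4 r → r ≠ 22 → r ∉ ([12, 13, 18] : List ℕ) →
      ∀ t : F, x r t ∈ XS chevD4 F T := fun r hr h1 h2 h3 t => xg_mem_XS hr (Set.mem_ofPred_eq ▸ ⟨h1, h2, h3⟩) t
  have hv0 : v0 ∈ XS chevD4 F T := by
    refine mul_mem (hT 14 (by norm_num) (by decide +kernel) (by norm_num) (by decide) _)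
      (mul_mem (mul_mem (mul_mem ?_ ?_) ?_) (mul_mem (mul_mem ?_ ?_) ?_)) <;>
      exact hT _ (by norm_num) (by decide +kernel) (by norm_num) (by decide) _
  -- move the element of the root `3a+b` to the left
  have hconj : (x 22 a)⁻¹ * v0 * x 22 a ∈ XS chevD4 F T := by
    refine Subgroup.closure_induction (p := fun g _ => (x 22 a)⁻¹ * g * x 22 a ∈ XS chevD4 F T)
      ?_ ?_ ?_ ?_ hv0
    · rintro g ⟨r, t, hr, ⟨h1, h2, h3⟩, rfl⟩
      by_cases h14 : r = 14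
      · subst h14
        have := comm1 (F := F) (r := 14) (s := 22) (k := 23) (M := chevD4.chainM 14 22 1)
          (by decide +kernel) t a
        rw [mul_assoc, this, ← mul_assoc, ← mul_assoc, inv_mul_cancel, one_mul]
        exact mul_mem (hT 14 hr h1 h2 h3 t)
          (hT 23 (by norm_num) (by decide +kernel) (by norm_num) (by decide) _)
      · rw [mul_assoc, comm22 hr h1 h14, inv_mul_cancel_left]
        exact hT r hr h1 h2 h3 t
    · simp
    · intro g g' _ _ hg hg'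
      have := mul_mem hg hg'
      rwa [show (x 22 a)⁻¹ * g * x 22 a * ((x 22 a)⁻¹ * g' * x 22 a) =
        (x 22 a)⁻¹ * (g * g') * x 22 a by group] at this
    · intro g _ hg
      have := inv_mem hg
      rwa [show ((x 22 a)⁻¹ * g * x 22 a)⁻¹ = (x 22 a)⁻¹ * g⁻¹ * x 22 a by group] at this
  set v := (x 22 a)⁻¹ * v0 * x 22 a * x 23 b
  have hvT : v ∈ XS chevD4 F T :=
    mul_mem hconj (hT 23 (by norm_num) (by decide +kernel) (by norm_num) (by decide) _)
  have hA22 : Commute (XA q c) (x 22 a) := by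
    refine ((Commute.mul_left ?_ ?_).mul_left ?_) <;>
      exact comm22 (by norm_num) (by decide +kernel) (by norm_num) _ _
  have eu : u = x 22 a * (XA q c * v) := by
    rw [← mul_assoc, ← hA22.eq, show v = (x 22 a)⁻¹ * v0 * x 22 a * x 23 b from rfl]
    simp only [v0, mul_assoc, mul_inv_cancel_left]
    rw [← e4, hu4, hu3, hu2]
    group
  have hvS : v ∈ C.S := by
    have hx := C.xg_mem 22 (by simp) ha
    exact mul_mem (mul_mem (mul_mem (inv_mem hx)
      (mul_mem (C.xg_mem 14 (by simp) hs) (mul_mem (C.XC_mem d) (C.XD_mem e)))) hx)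
      (C.xg_mem 23 (by simp) hb)
  have hp := C.stab_U (C.nW_back_mem (cellWord 2) hvS) (C.nW_back (cellWord 2) T ?_ hvT)
  · refine ⟨x 22 a, C.xg_mem 22 (by simp) ha, by rw [C.phi_x 22 (by norm_num), ha], c, _, hp, ?_⟩
    rw [eu]; group
  · have : ∀ r : Fin 24, 1 ≤ ht chevD4 r.val → r.val ≠ 22 → r.val ∉ ([12, 13, 18] : List ℕ) →
        ∃ r' : Fin 24, 1 ≤ ht chevD4 r'.val ∧ wact (cellWord 2) r'.val = r.val := by decide +kernel
    intro r hr ⟨h1, h2, h3⟩
    obtain ⟨r', h4, h5⟩ := this ⟨r, hr⟩ h1 h2 h3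
    exact ⟨r'.val, r'.isLt, h4, h5⟩

theorem red_odd (i j : Fin 6) (hij : cellWord i = 0 :: cellWord j)
    (hj : ∀ u ∈ C.S, u ∈ Um F 1 → C.Red (u * nWord F C.n (cellWord j)))
    {u : GL chevD4.Idx F} (hS : u ∈ C.S) (hU : u ∈ Um F 1) :
    C.Red (u * nWord F C.n (cellWord i)) := by
  obtain ⟨s, hs, v, hvS, hv, rfl⟩ := C.peelB hS hU
  have hv' : (C.n 0)⁻¹ * v * C.n 0 ∈ Um F 1 := by
    have := C.nW_back [0] {r | 1 ≤ ht chevD4 r ∧ r ≠ 14} ?_ hv
    · simpa [nWord] using this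
    · have : ∀ r : Fin 24, 1 ≤ ht chevD4 r.val → r.val ≠ 14 →
          ∃ r' : Fin 24, 1 ≤ ht chevD4 r'.val ∧ wact [0] r'.val = r.val := by decide +kernel
      intro r hr ⟨h1, h2⟩
      obtain ⟨r', h3, h4⟩ := this ⟨r, hr⟩ h1 h2
      exact ⟨r'.val, r'.isLt, h3, h4⟩
  have hv'S : (C.n 0)⁻¹ * v * C.n 0 ∈ C.S :=
    mul_mem (mul_mem (inv_mem (C.n_mem 0)) hvS) (C.n_mem 0)
  have e : x 14 s * v * nWord F C.n (cellWord i) =
      x 14 s * C.n 0 * ((C.n 0)⁻¹ * v * C.n 0 * nWord F C.n (cellWord j)) := by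
    rw [hij, nW_cons]; group
  rw [e]
  exact C.red_left (mul_mem (C.xg_mem 14 (by simp) hs) (C.n_mem 0))
    (by rw [map_mul, C.phi_x 14 (by norm_num), hs, C.n_fix]) (hj _ hv'S hv')

theorem red_one {u : GL chevD4.Idx F} (hS : u ∈ C.S) (hU : u ∈ Um F 1) :
    C.Red (u * nWord F C.n (cellWord 1)) :=
  C.red_odd 1 0 rfl (fun v hvS hvU => C.red_stab (C.stab_mul (C.stab_U hvS hvU)
    (C.stab_U (one_mem _) (one_mem _)))) hS hU

theorem red_three {u : GL chevD4.Idx F} (hS : u ∈ C.S) (hU : u ∈ Um F 1) :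
    C.Red (u * nWord F C.n (cellWord 3)) :=
  C.red_odd 3 2 rfl (fun _ h h' => C.red_two h h') hS hU

theorem U4_comm_XA {z : GL chevD4.Idx F} (hz : z ∈ Um F 4) (c : F) : Commute z (XA q c) := by
  induction hz using Subgroup.closure_induction with
  | mem z hz =>
    obtain ⟨r, t, hr, hS, rfl⟩ := hz
    have : ∀ r : Fin 24, 4 ≤ ht chevD4 r.val → r.val = 22 ∨ r.val = 23 := by decide +kernel
    rcases this ⟨r, hr⟩ hS with e | e
    · obtain rfl : r = 22 := e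
      refine (Commute.mul_right (Commute.mul_right ?_ ?_) ?_) <;>
        exact (comm22 (by norm_num) (by decide +kernel) (by norm_num) _ _).symm
    · obtain rfl : r = 23 := e
      exact (central23 (C.XA_mem_U c) t).symm
  | one => exact Commute.one_left _
  | mul a b _ _ ha hb => exact ha.mul_left hb
  | inv a _ ha => exact ha.inv_left

theorem U4_comm_XD {z : GL chevD4.Idx F} (hz : z ∈ Um F 4) (c : F) : Commute z (XD q c) := by
  induction hz using Subgroup.closure_induction with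
  | mem z hz =>
    obtain ⟨r, t, hr, hS, rfl⟩ := hz
    have : ∀ r : Fin 24, 4 ≤ ht chevD4 r.val → r.val = 22 ∨ r.val = 23 := by decide +kernel
    rcases this ⟨r, hr⟩ hS with e | e
    · obtain rfl : r = 22 := e
      refine (Commute.mul_right (Commute.mul_right ?_ ?_) ?_) <;>
        exact (comm22 (by norm_num) (by decide +kernel) (by norm_num) _ _).symm
    · obtain rfl : r = 23 := e
      exact (central23 (Um_mono (by norm_num) (C.XD_mem_U c)) t).symm
  | one => exact Commute.one_left _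
  | mul a b _ _ ha hb => exact ha.mul_left hb
  | inv a _ ha => exact ha.inv_left

/-- The roots that the fourth representative keeps positive. -/
def keep4 : Set ℕ := {r | r ∈ ([14, 15, 16, 19] : List ℕ)}

theorem keep4_back {w : GL chevD4.Idx F} (hw : w ∈ XS chevD4 F keep4) :
    (nWord F C.n (cellWord 4))⁻¹ * w * nWord F C.n (cellWord 4) ∈ Um F 1 := by
  refine C.nW_back _ _ ?_ hw
  have : ∀ r : Fin 24, r.val ∈ ([14, 15, 16, 19] : List ℕ) →
      ∃ r' : Fin 24, 1 ≤ ht chevD4 r'.val ∧ wact (cellWord 4) r'.val = r.val := by decide +kernel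
  intro r hr h
  obtain ⟨r', h1, h2⟩ := this ⟨r, hr⟩ h
  exact ⟨r'.val, r'.isLt, h1, h2⟩

theorem keep4_XC (d : F) : XC q d ∈ XS chevD4 F keep4 := by
  refine mul_mem (mul_mem ?_ ?_) ?_ <;>
    exact xg_mem_XS (by norm_num [nroots_eq]) (by simp [keep4]) _

theorem keep4_x14 (s : F) : x 14 s ∈ XS chevD4 F keep4 :=
  xg_mem_XS (by norm_num [nroots_eq]) (by simp [keep4]) _

/-- The element `X_A(c) n` of the fourth cell reduces to the second. -/
theorem red_four_A (c : F) : C.Red (XA q c * nWord F C.n (cellWord 4)) := by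
  set W : List (Fin 2) := [1, 0, 1, 0, 1, 0]
  obtain ⟨e1, he1, -, h1⟩ := C.n_conj 1 5 (by norm_num)
  obtain ⟨e2, he2, -, h2⟩ := C.n_conj 1 10 (by norm_num)
  obtain ⟨e3, he3, -, h3⟩ := C.n_conj 1 11 (by norm_num)
  obtain ⟨f1, -, -, g1⟩ := C.nW_conj W (show 5 < 24 by norm_num)
  obtain ⟨f2, -, -, g2⟩ := C.nW_conj W (show 10 < 24 by norm_num)
  obtain ⟨f3, -, -, g3⟩ := C.nW_conj W (show 11 < 24 by norm_num)
  set y := x 5 (e1⁻¹ * c) * x 10 (e2⁻¹ * c ^ q) * x 11 (e3⁻¹ * c ^ (q ^ 2))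
  have hy : C.n 1 * y * (C.n 1)⁻¹ = XA q c := by
    rw [conj3, h1, h2, h3, ← mul_assoc, mul_inv_cancel₀ he1, ← mul_assoc e2, mul_inv_cancel₀ he2,
      ← mul_assoc e3, mul_inv_cancel₀ he3, one_mul, one_mul, one_mul]
    rfl
  have hz : nWord F C.n W * y * (nWord F C.n W)⁻¹ =
      x 18 (f1 * (e1⁻¹ * c)) * x 13 (f2 * (e2⁻¹ * c ^ q)) * x 12 (f3 * (e3⁻¹ * c ^ (q ^ 2))) := by
    rw [conj3, g1, g2, g3]; rfl
  have hyS : y ∈ C.S := by
    have := mul_mem (mul_mem (inv_mem (C.n_mem 1)) (C.XA_mem c)) (C.n_mem 1)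
    rwa [← hy, show (C.n 1)⁻¹ * (C.n 1 * y * (C.n 1)⁻¹) * C.n 1 = y by group] at this
  have hzS := mul_mem (mul_mem (C.nW_mem W) hyS) (inv_mem (C.nW_mem W))
  rw [hz] at hzS
  rw [C.tri_A hzS] at hz
  have hp := C.same_cell (W := W ++ cellWord 3) (W' := cellWord 2) (by decide +kernel)
  have hcat : nWord F C.n (W ++ cellWord 3) = nWord F C.n W * nWord F C.n (cellWord 3) := by
    simp [nWord]
  refine ⟨C.n 1 * (nWord F C.n W)⁻¹, mul_mem (C.n_mem 1) (inv_mem (C.nW_mem W)),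
    by rw [map_mul, map_inv, C.n_fix, C.nW_fix], f1 * (e1⁻¹ * c), _, hp, ?_⟩
  rw [← hz, hcat, ← hy, show cellWord 4 = 1 :: cellWord 3 from rfl, nW_cons]
  group

theorem red_four_D {c e : F} (hc : c ^ q = c) :
    C.Red (XA q c * XD q e * nWord F C.n (cellWord 4)) := by
  obtain ⟨k, hk, -, h⟩ := C.na_XC
  have e1 : XA q c * XD q e * nWord F C.n (cellWord 4) =
      XA q c * C.n 1 * (XC q (k⁻¹ * e) * nWord F C.n (cellWord 3)) := by
    rw [show cellWord 4 = 1 :: cellWord 3 from rfl, nW_cons,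
      show XD q e = C.n 1 * XC q (k⁻¹ * e) * (C.n 1)⁻¹ by
        rw [h, ← mul_assoc, mul_inv_cancel₀ hk, one_mul]]
    group
  rw [e1]
  exact C.red_left (mul_mem (C.XA_mem c) (C.n_mem 1)) (by rw [map_mul, C.phi_XA, hc, C.n_fix])
    (C.red_three (C.XC_mem _) (Um_mono (by norm_num) (C.XC_mem_U _)))

theorem red_four_outer {c : F} (hc : c ^ q ≠ c) (e : F) :
    C.Red (XA q c * XD q e * nWord F C.n (cellWord 4)) := by
  -- every parameter of height three is removed by the subfield subgroup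
  have hc0 : c ≠ 0 := by rintro rfl; exact hc C.zero_pow'
  obtain ⟨a, b, t, ha, hb, ht, hec⟩ := C.span3 hc (e * c)
  set N := c * c ^ q * c ^ (q ^ 2) with hN
  set Tr := c + c ^ q + c ^ (q ^ 2) with hTr
  have hN0 : N ≠ 0 := mul_ne_zero (mul_ne_zero hc0 (pow_ne_zero _ hc0)) (pow_ne_zero _ hc0)
  have hTrq : Tr ^ q = Tr := by
    rw [hTr, C.add, C.add, pow_q2 C, C.pow_q3]; ring
  set a0 := b + t * Tr
  set b0 := -t with hb0
  set s0 := a * N⁻¹
  have ha0 : a0 ^ q = a0 := C.fix_add hb (fix_mul ht hTrq)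
  have hb0q : b0 ^ q = b0 := C.fix_neg ht
  have hs0 : s0 ^ q = s0 := fix_mul ha (fix_inv (C.norm_fix c))
  have he : e = a0 + b0 * (c ^ q + c ^ (q ^ 2)) + s0 * (c ^ q * c ^ (q ^ 2)) := by
    have hcc : c ^ q * c ^ (q ^ 2) = N * c⁻¹ := by rw [hN]; field_simp
    rw [hcc, show e = (a + b * c + t * c ^ 2) * c⁻¹ by rw [← hec]; field_simp]
    simp only [a0, hb0, s0, hTr]
    field_simp
    ring
  set m := XD q a0 * (XC q b0 * x 14 s0)
  have hm : m ∈ C.S :=
    mul_mem (C.XD_mem a0) (mul_mem (C.XC_mem b0) (C.xg_mem 14 (by simp) hs0))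
  have hmφ : C.phi m = m := by
    rw [map_mul, map_mul, C.phi_XD, C.phi_XC, C.phi_x 14 (by norm_num), ha0, hb0q, hs0]
  set w := XC q b0 * (XC q (s0 * c) * x 14 s0)
  have hwK : w ∈ XS chevD4 F keep4 :=
    mul_mem (C.keep4_XC b0) (mul_mem (C.keep4_XC _) (C.keep4_x14 s0))
  have hwS : w ∈ C.S :=
    mul_mem (C.XC_mem b0) (mul_mem (C.XC_mem _) (C.xg_mem 14 (by simp) hs0))
  set X := (XA q c)⁻¹ * m * XA q c * w⁻¹
  have hXS : X ∈ C.S :=
    mul_mem (mul_mem (mul_mem (inv_mem (C.XA_mem c)) hm) (C.XA_mem c)) (inv_mem hwS)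
  obtain ⟨w1, hw1, -, hK1⟩ := C.bracketAC (-c) b0
  obtain ⟨w2, hw2, -, hK2⟩ := C.bracketBA hs0 (-c)
  have hAU := C.XA_mem_U (-c)
  have hCU := Um_mono (show (1 : ℤ) ≤ 2 by norm_num) (C.XC_mem_U b0)
  have hCsU := Um_mono (show (1 : ℤ) ≤ 2 by norm_num) (C.XC_mem_U (s0 * c))
  have v1 := (C.vec_XD a0).conj good h1_3 hAU
  have v2 := (C.vec_XD (-((-c) ^ q * b0 ^ (q ^ 2) + (-c) ^ (q ^ 2) * b0 ^ q))).mul good h1_3
    (vec_of_next good (m := 3) hw1)
  rw [← hK1] at v2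
  have hK2' : (br (x 14 s0) (XA q (-c)))⁻¹ * (XC q (s0 * c))⁻¹ =
      w2⁻¹ * (XD q (-(s0 * ((-c) ^ q * (-c) ^ (q ^ 2)))))⁻¹ := by
    rw [hK2, mul_neg, ← C.XC_neg]
    group
  have v3 := ((vec_of_next good (m := 3) hw2).inv good h1_3).mul good h1_3
    ((C.vec_XD (-(s0 * ((-c) ^ q * (-c) ^ (q ^ 2))))).inv good h1_3)
  rw [← hK2'] at v3
  have vX := (v1.mul good h1_3 v2).mul good h1_3 (v3.conj good h1_3 hCU)
  have eX : X = XA q (-c) * XD q a0 * (XA q (-c))⁻¹ * br (XA q (-c)) (XC q b0) *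
      (XC q b0 * ((br (x 14 s0) (XA q (-c)))⁻¹ * (XC q (s0 * c))⁻¹) * (XC q b0)⁻¹) := by
    simp only [X, m, w, br, ← C.XA_neg]
    group
  rw [← eX] at vX
  obtain ⟨e', he', h4⟩ := C.split3 hXS (vX.mem good)
  have hee : e' = e := by
    rw [← he' _ vX, he]
    simp only [C.neg_pow', show (-c) ^ (q ^ 2) = -(c ^ (q ^ 2)) by
      rw [pow_two, pow_mul, C.neg_pow', C.neg_pow', ← pow_mul],
      show b0 ^ (q ^ 2) = b0 by rw [pow_two, pow_mul, hb0q, hb0q], hb0q]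
    simp
    ring
  subst hee
  set z := (XD q e')⁻¹ * X
  have hzS : z ∈ C.S := mul_mem (inv_mem (C.XD_mem e')) hXS
  obtain ⟨a', b', ha', hb', e4⟩ := C.split4 hzS h4
  have hzφ : C.phi z = z := by
    rw [e4, map_mul, C.phi_x 22 (by norm_num), C.phi_x 23 (by norm_num), ha', hb']
  have hwinv := C.stab_U (inv_mem (C.nW_back_mem (cellWord 4) hwS)) (inv_mem (C.keep4_back hwK))
  have emain : XA q c * XD q e' * nWord F C.n (cellWord 4) = z⁻¹ * m *
      ((XA q c * nWord F C.n (cellWord 4)) *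
        ((nWord F C.n (cellWord 4))⁻¹ * w * nWord F C.n (cellWord 4))⁻¹) := by
    have hc1 : XA q c * XD q e' = z⁻¹ * (XA q c * XD q e' * z) := by
      rw [← ((C.U4_comm_XA h4 c).mul_right (C.U4_comm_XD h4 e')).eq, inv_mul_cancel_left]
    rw [hc1]
    simp only [z, X]
    group
  rw [emain]
  exact C.red_left (mul_mem (inv_mem hzS) hm) (by rw [map_mul, map_inv, hzφ, hmφ])
    (C.red_right (C.red_four_A c) hwinv)

theorem red_four {u : GL chevD4.Idx F} (hS : u ∈ C.S) (hU : u ∈ Um F 1) :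
    C.Red (u * nWord F C.n (cellWord 4)) := by
  obtain ⟨c, s, hs, h⟩ := C.peelA hS hU
  set u2 := (x 14 s)⁻¹ * ((XA q c)⁻¹ * u) with hu2
  have hu2S : u2 ∈ C.S :=
    mul_mem (inv_mem (C.xg_mem 14 (by simp) hs)) (mul_mem (inv_mem (C.XA_mem c)) hS)
  obtain ⟨d, -, h3⟩ := C.split2 hu2S h
  set w := x 14 s * XC q d
  have hwS : w ∈ C.S := mul_mem (C.xg_mem 14 (by simp) hs) (C.XC_mem d)
  have hwU : w ∈ Um F 1 :=
    mul_mem (xg_mem_Um (by norm_num) (by decide +kernel) s) (Um_mono (by norm_num) (C.XC_mem_U d))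
  set z := w * ((XC q d)⁻¹ * u2) * w⁻¹
  have hzU : z ∈ Um F 3 := Um_conj (by norm_num) hwU h3
  have hzS : z ∈ C.S := mul_mem (mul_mem hwS (mul_mem (inv_mem (C.XC_mem d)) hu2S)) (inv_mem hwS)
  obtain ⟨e, -, h4⟩ := C.split3 hzS hzU
  set z4 := (XD q e)⁻¹ * z
  have hz4S : z4 ∈ C.S := mul_mem (inv_mem (C.XD_mem e)) hzS
  obtain ⟨a, b, ha, hb, e4⟩ := C.split4 hz4S h4
  have hz4φ : C.phi z4 = z4 := by
    rw [e4, map_mul, C.phi_x 22 (by norm_num), C.phi_x 23 (by norm_num), ha, hb]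
  have eu : u = z4 * (XA q c * XD q e) * w := by
    rw [((C.U4_comm_XA h4 c).mul_right (C.U4_comm_XD h4 e)).eq]
    simp only [z4, z, w, hu2]
    group
  have hwp := C.stab_U (C.nW_back_mem (cellWord 4) hwS)
    (C.keep4_back (mul_mem (C.keep4_x14 s) (C.keep4_XC d)))
  suffices C.Red (XA q c * XD q e * nWord F C.n (cellWord 4)) by
    have := C.red_left hz4S hz4φ (C.red_right this hwp)
    rw [eu]
    convert this using 1
    group
  by_cases hc : c ^ q = c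
  · exact C.red_four_D hc
  · exact C.red_four_outer hc e

theorem red_cell (i : Fin 6) {u : GL chevD4.Idx F} (hS : u ∈ C.S) (hU : u ∈ Um F 1) :
    C.Red (u * nWord F C.n (cellWord i)) := by
  match i with
  | 0 =>
    rw [show nWord F C.n (cellWord 0) = 1 from rfl, mul_one]
    exact C.red_stab (C.stab_U hS hU)
  | 1 => exact C.red_one hS hU
  | 2 => exact C.red_two hS hU
  | 3 => exact C.red_three hS hU
  | 4 => exact C.red_four hS hU
  | 5 => exact C.red_odd 5 4 rfl (fun _ h h' => C.red_four h h') hS hU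

/-- Every element of the twisted group. -/
theorem red_all {g : GL chevD4.Idx F} (hg : g ∈ C.S) : C.Red g := by
  obtain ⟨u, hu, huU, W, v, hv, hvU, h, hhd, rfl⟩ := C.bruhat g hg
  obtain ⟨hh, hscale, -⟩ := C.Hd_data h hhd
  obtain ⟨i, hi⟩ := exists_cellWord W
  have hp : C.Stab ((nWord F C.n (cellWord i))⁻¹ * nWord F C.n W * (v * h)) := by
    obtain ⟨e, he, heh⟩ := hscale 23 (by norm_num)
    exact C.stab_mul (C.same_cell hi) (C.stab_mul (C.stab_U hv hvU) (C.stab_of hh e he heh))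
  have := C.red_right (C.red_cell i hu huU) hp
  convert this using 1
  group

end Ctx

end Cfsg.Agent.D4SubMax
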