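import Cfsg.Agent.D4SubMax.Brackets

/-!
A subgroup above the subfield subgroup of `³D₄` with a unipotent element outside it is the whole group.
-/

set_option autoImplicit false

namespace Cfsg.Agent.D4SubMax

open Cfsg.Lie Cfsg.Agent.ChevCore Cfsg.Agent.Chev54

variable {F : Type*} [Field F] {q : ℕ}

local notation "x" => xg chevD4 F

theorem br_up {m : ℤ} (hm : 1 ≤ m) {g z : GL chevD4.Idx F} (hg : g ∈ Um F 1) (hz : z ∈ Um F m) :
    br g z ∈ Um F (m + 1) := by
  obtain ⟨d, hd⟩ := exists_vec good hm hz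
  have h := ((hd.conj good hm hg).mul good hm (hd.inv good hm)).2
  rw [add_neg_cancel] at h
  have h0 : prodL chevD4 F (posL (D := chevD4)) (0 : ℕ → F) = 1 := prodL_zero good _
  rwa [h0, inv_one, one_mul] at h

namespace Ctx

variable (C : Ctx F q)
include C

theorem fix_zero : (0 : F) ^ q = 0 := C.zero_pow'

theorem fix_one : (1 : F) ^ q = 1 := one_pow q

theorem fix_neg {t : F} (h : t ^ q = t) : (-t) ^ q = -t := by rw [C.neg_pow', h]

theorem fix_add {t u : F} (h : t ^ q = t) (h' : u ^ q = u) : (t + u) ^ q = t + u := by rw [C.add, h, h']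

omit C in
theorem fix_mul {t u : F} (h : t ^ q = t) (h' : u ^ q = u) : (t * u) ^ q = t * u := by
  rw [mul_pow, h, h']

omit C in
theorem fix_inv {t : F} (h : t ^ q = t) : t⁻¹ ^ q = t⁻¹ := by rw [inv_pow, h]

theorem norm_fix (c : F) : (c * c ^ q * c ^ (q ^ 2)) ^ q = c * c ^ q * c ^ (q ^ 2) := by
  rw [mul_pow, mul_pow, pow_q2 C, C.pow_q3]; ring

/-- The field is spanned over the fixed field by the powers of any element outside it. -/
theorem span3 {c : F} (hc : c ^ q ≠ c) (z : F) :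
    ∃ a b w : F, a ^ q = a ∧ b ^ q = b ∧ w ^ q = w ∧ z = a + b * c + w * c ^ 2 := by
  classical
  haveI := C.fin
  haveI : Fintype F := Fintype.ofFinite F
  have hK : Fintype.card F = q ^ 3 := by rw [← Nat.card_eq_fintype_card, C.card]
  have hcard : Nat.card {t : F // t ^ q = t} = q :=
    Twisted.card_fixed_pow (F := F) C.q_two hK
  let f : {t : F // t ^ q = t} × {t : F // t ^ q = t} × {t : F // t ^ q = t} → F :=
    fun p => p.1.1 + p.2.1.1 * c + p.2.2.1 * c ^ 2
  have hf : Function.Bijective f := by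
    refine (Nat.bijective_iff_injective_and_card f).2 ⟨?_, ?_⟩
    · rintro ⟨⟨a, ha⟩, ⟨b, hb⟩, ⟨w, hw⟩⟩ ⟨⟨a', ha'⟩, ⟨b', hb'⟩, ⟨w', hw'⟩⟩ h
      simp only [f] at h
      set A := a - a' with hA
      set B := b - b' with hB
      set W := w - w' with hW
      have hAf : A ^ q = A := by rw [hA, C.sub_pow', ha, ha']
      have hBf : B ^ q = B := by rw [hB, C.sub_pow', hb, hb']
      have hWf : W ^ q = W := by rw [hW, C.sub_pow', hw, hw']
      have h0 : A + B * c + W * c ^ 2 = 0 := by rw [hA, hB, hW]; linear_combination h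
      have h1 : A + B * c ^ q + W * (c ^ q) ^ 2 = 0 := by
        have := congrArg (fun t : F => t ^ q) h0
        simp only [C.add, mul_pow, hAf, hBf, hWf, C.zero_pow', ← pow_mul, mul_comm q 2] at this
        simpa [← pow_mul, mul_comm q 2] using this
      have h2 : A + B * c ^ (q ^ 2) + W * (c ^ (q ^ 2)) ^ 2 = 0 := by
        have := congrArg (fun t : F => t ^ q) h1
        simp only [C.add, mul_pow, hAf, hBf, hWf, C.zero_pow', pow_q2 C] at this
        rw [← pow_mul (c ^ q), mul_comm 2 q, pow_mul, pow_q2 C] at this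
        exact this
      have d01 : c - c ^ q ≠ 0 := sub_ne_zero.2 (Ne.symm hc)
      have d02 : c - c ^ (q ^ 2) ≠ 0 := by
        rw [sub_ne_zero]
        intro e
        refine hc ?_
        conv_lhs => rw [e]
        exact C.pow_q3 c
      have d12 : c ^ q - c ^ (q ^ 2) ≠ 0 := by
        rw [sub_ne_zero]
        intro e
        refine d02 (sub_eq_zero.2 ?_)
        have e' := congrArg (fun t : F => t ^ q) e
        simp only [pow_q2 C, C.pow_q3] at e'
        exact e'.symm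
      have e1 : B + W * (c + c ^ q) = 0 := by
        apply (mul_eq_zero.1 (show (c - c ^ q) * (B + W * (c + c ^ q)) = 0 by
          linear_combination h0 - h1)).resolve_left d01
      have e2 : B + W * (c + c ^ (q ^ 2)) = 0 := by
        apply (mul_eq_zero.1 (show (c - c ^ (q ^ 2)) * (B + W * (c + c ^ (q ^ 2))) = 0 by
          linear_combination h0 - h2)).resolve_left d02
      have eW : W = 0 :=
        (mul_eq_zero.1 (show W * (c ^ q - c ^ (q ^ 2)) = 0 by linear_combination e1 - e2)).resolve_right d12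
      have eB : B = 0 := by simpa [eW] using e1
      have eA : A = 0 := by simpa [eW, eB] using h0
      simp only [Prod.mk.injEq, Subtype.mk.injEq]
      exact ⟨sub_eq_zero.1 eA, sub_eq_zero.1 eB, sub_eq_zero.1 eW⟩
    · rw [Nat.card_prod, Nat.card_prod, hcard, C.card]; ring
  obtain ⟨⟨⟨a, ha⟩, ⟨b, hb⟩, ⟨w, hw⟩⟩, h⟩ := hf.2 z
  exact ⟨a, b, w, ha, hb, hw, h.symm⟩

theorem XA_add (t u : F) : XA q (t + u) = XA q t * XA q u := by
  have h2 : (t + u) ^ (q ^ 2) = t ^ (q ^ 2) + u ^ (q ^ 2) := by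
    rw [pow_two, pow_mul, C.add, C.add, ← pow_mul, ← pow_mul]
  simp only [XA, C.add, h2, goodG.xg_add]
  have c1 : ∀ a b : F, x 13 a * x 18 b = x 18 b * x 13 a := fun a b => comm0 (by decide +kernel) a b
  have c2 : ∀ a b : F, x 12 a * x 18 b = x 18 b * x 12 a := fun a b => comm0 (by decide +kernel) a b
  have c3 : ∀ a b : F, x 12 a * x 13 b = x 13 b * x 12 a := fun a b => comm0 (by decide +kernel) a b
  simp only [mul_assoc]
  rw [← mul_assoc (x 12 (t ^ (q ^ 2))) (x 18 u), c2, mul_assoc, ← mul_assoc (x 12 (t ^ (q ^ 2))) (x 13 _),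
    c3, mul_assoc, ← mul_assoc (x 13 (t ^ q)) (x 18 u), c1, mul_assoc]

/-- A product along the first orbit in the twisted group is `XA`. -/
theorem tri_A {a b c : F} (hS : x 18 a * x 13 b * x 12 c ∈ C.S) :
    x 18 a * x 13 b * x 12 c = XA q a := by
  have h := fun (r : ℕ) (hr : r < 24) (e : ht chevD4 r = 1) (u : F) =>
    e ▸ vec_xg good (D := chevD4) hr (by omega) u
  have hv := ((h 18 (by norm_num) (by decide +kernel) a).mul good le_rfl
    (h 13 (by norm_num) (by decide +kernel) b)).mul good le_rfl (h 12 (by norm_num) (by decide +kernel) c)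
  have p := C.pattern le_rfl hS hv
  have hb : b = a ^ q := by
    have := p 13
    simp [imgC, show rho 13 = 12 from rfl, show rho 12 = 18 from rfl, show eps 18 = 1 from rfl] at this
    exact this
  have hc : c = a ^ (q ^ 2) := by
    have := p 12
    simp [imgC, show rho 12 = 18 from rfl, show rho 18 = 13 from rfl, show eps 13 = 1 from rfl] at this
    rw [this, hb, pow_q2 C]
  rw [XA, hb, hc]

/-- A product along the second orbit in the twisted group is `XC`. -/
theorem tri_C {a b c : F} (hS : x 19 a * x 16 b * x 15 c ∈ C.S) :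
    x 19 a * x 16 b * x 15 c = XC q a := by
  have h := fun (r : ℕ) (hr : r < 24) (e : ht chevD4 r = 2) (u : F) =>
    e ▸ vec_xg good (D := chevD4) hr (by omega) u
  have hv := ((h 19 (by norm_num) (by decide +kernel) a).mul good (by norm_num)
    (h 16 (by norm_num) (by decide +kernel) b)).mul good (by norm_num)
    (h 15 (by norm_num) (by decide +kernel) c)
  have p := C.pattern (by norm_num) hS hv
  have hb : b = -(a ^ q) := by
    have := p 16
    simp [imgC, show rho 16 = 15 from rfl, show rho 15 = 19 from rfl, show eps 19 = -1 from rfl] at this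
    exact this
  have hc : c = -(a ^ (q ^ 2)) := by
    have := p 15
    simp [imgC, show rho 15 = 19 from rfl, show rho 19 = 16 from rfl, show eps 16 = 1 from rfl] at this
    rw [this, hb, C.neg_pow', pow_q2 C]
  rw [XC, hb, hc]

/-- A product along the third orbit in the twisted group is `XD`. -/
theorem tri_D {a b c : F} (hS : x 17 a * x 20 b * x 21 c ∈ C.S) :
    x 17 a * x 20 b * x 21 c = XD q a := by
  have h := fun (r : ℕ) (hr : r < 24) (e : ht chevD4 r = 3) (u : F) =>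
    e ▸ vec_xg good (D := chevD4) hr (by omega) u
  have hv := ((h 17 (by norm_num) (by decide +kernel) a).mul good (by norm_num)
    (h 20 (by norm_num) (by decide +kernel) b)).mul good (by norm_num)
    (h 21 (by norm_num) (by decide +kernel) c)
  have p := C.pattern (by norm_num) hS hv
  have hb : b = -(a ^ q) := by
    have := p 20
    simp [imgC, show rho 20 = 21 from rfl, show rho 21 = 17 from rfl, show eps 17 = -1 from rfl] at this
    exact this
  have hc : c = -(a ^ (q ^ 2)) := by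
    have := p 21
    simp [imgC, show rho 21 = 17 from rfl, show rho 17 = 20 from rfl, show eps 20 = 1 from rfl] at this
    rw [this, hb, C.neg_pow', pow_q2 C]
  rw [XD, hb, hc]

omit C in
theorem conj3 {g : GL chevD4.Idx F} {r₁ r₂ r₃ : ℕ} {u v w : F} :
    g * (x r₁ u * x r₂ v * x r₃ w) * g⁻¹ =
      g * x r₁ u * g⁻¹ * (g * x r₂ v * g⁻¹) * (g * x r₃ w * g⁻¹) := by group

/-- The long reflection takes the first orbit to the second. -/
theorem nb_XA : ∃ e : F, e ≠ 0 ∧ e ^ q = e ∧ ∀ t, C.n 0 * XA q t * (C.n 0)⁻¹ = XC q (e * t) := by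
  obtain ⟨e, he, heq, h1⟩ := C.n_conj 0 18 (by norm_num)
  obtain ⟨e2, -, -, h2⟩ := C.n_conj 0 13 (by norm_num)
  obtain ⟨e3, -, -, h3⟩ := C.n_conj 0 12 (by norm_num)
  refine ⟨e, he, heq, fun t => ?_⟩
  have key : C.n 0 * XA q t * (C.n 0)⁻¹ =
      x 19 (e * t) * x 16 (e2 * t ^ q) * x 15 (e3 * t ^ (q ^ 2)) := by
    rw [XA, conj3, h1, h2, h3]; rfl
  have hm := mul_mem (mul_mem (C.n_mem 0) (C.XA_mem t)) (inv_mem (C.n_mem 0))
  rw [key] at hm ⊢
  exact C.tri_C hm

/-- The short reflection takes the second orbit to the third. -/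
theorem na_XC : ∃ e : F, e ≠ 0 ∧ e ^ q = e ∧ ∀ t, C.n 1 * XC q t * (C.n 1)⁻¹ = XD q (e * t) := by
  obtain ⟨e, he, heq, h1⟩ := C.n_conj 1 19 (by norm_num)
  obtain ⟨e2, -, -, h2⟩ := C.n_conj 1 16 (by norm_num)
  obtain ⟨e3, -, -, h3⟩ := C.n_conj 1 15 (by norm_num)
  refine ⟨e, he, heq, fun t => ?_⟩
  have key : C.n 1 * XC q t * (C.n 1)⁻¹ =
      x 17 (e * t) * x 20 (e2 * -(t ^ q)) * x 21 (e3 * -(t ^ (q ^ 2))) := by
    rw [XC, conj3, h1, h2, h3]; rfl
  have hm := mul_mem (mul_mem (C.n_mem 1) (C.XC_mem t)) (inv_mem (C.n_mem 1))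
  rw [key] at hm ⊢
  exact C.tri_D hm

variable {H : Subgroup (GL chevD4.Idx F)} (hH : H ≤ C.S) (hM : ∀ g ∈ C.S, C.phi g = g → g ∈ H)

include hM in
theorem n_in (k : Fin 2) : C.n k ∈ H := hM _ (C.n_mem k) (C.n_fix k)

include hM in
theorem x_in (r : ℕ) (hr : r = 14 ∨ r = 22 ∨ r = 23) {t : F} (ht : t ^ q = t) : x r t ∈ H :=
  hM _ (C.xg_mem r hr ht) (by rw [C.phi_x r (by omega), ht])

include hM in
theorem XA_in {t : F} (ht : t ^ q = t) : XA q t ∈ H := hM _ (C.XA_mem t) (by rw [C.phi_XA, ht])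

include hM in
theorem XC_in {t : F} (ht : t ^ q = t) : XC q t ∈ H := hM _ (C.XC_mem t) (by rw [C.phi_XC, ht])

include hM in
theorem XD_in {t : F} (ht : t ^ q = t) : XD q t ∈ H := hM _ (C.XD_mem t) (by rw [C.phi_XD, ht])

include hM in
theorem U4_in {y : GL chevD4.Idx F} (hS : y ∈ C.S) (hy : y ∈ Um F 4) : y ∈ H := by
  obtain ⟨s, t, hs, ht, rfl⟩ := C.split4 hS hy
  exact mul_mem (C.x_in hM 22 (by simp) hs) (C.x_in hM 23 (by simp) ht)

include hM in
theorem scale_in {t μ : F} (h : XA q t ∈ H) (hμ : μ ^ q = μ) : XA q (μ * t) ∈ H := by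
  rcases eq_or_ne μ 0 with rfl | hne
  · exact C.XA_in hM (by rw [zero_mul]; exact C.zero_pow')
  obtain ⟨g, hg, h18, hr, hfix⟩ := C.torus 1 (Units.mk0 μ hne)⁻¹
    (Units.ext (by simp [inv_pow, hμ]))
  obtain ⟨e2, -, h2⟩ := hr 13 (by norm_num)
  obtain ⟨e3, -, h3⟩ := hr 12 (by norm_num)
  have key : g * XA q t * g⁻¹ = x 18 (μ * t) * x 13 (e2 * t ^ q) * x 12 (e3 * t ^ (q ^ 2)) := by
    rw [XA, conj3, h18, h2, h3]; simp
  have hgH := hM g hg (hfix (one_pow q))
  have hm := mul_mem (mul_mem hgH h) (inv_mem hgH)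
  have hmS := mul_mem (mul_mem hg (C.XA_mem t)) (inv_mem hg)
  rw [key] at hm hmS
  rwa [C.tri_A hmS] at hm

include hM in
theorem XA_to_XC {t : F} (h : XA q t ∈ H) : XC q t ∈ H := by
  obtain ⟨e, he, heq, hc⟩ := C.nb_XA
  have h1 := mul_mem (mul_mem (C.n_in hM 0) (C.scale_in hM h (fix_inv heq))) (inv_mem (C.n_in hM 0))
  rwa [hc, ← mul_assoc, mul_inv_cancel₀ he, one_mul] at h1

include hM in
theorem XD_to_XA {t : F} (h : XD q t ∈ H) : XA q t ∈ H := by
  obtain ⟨e, he, heq, hc⟩ := C.nb_XA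
  obtain ⟨e', he', heq', hc'⟩ := C.na_XC
  have h1 : XC q (e'⁻¹ * t) ∈ H := by
    have := mul_mem (mul_mem (inv_mem (C.n_in hM 1)) h) (C.n_in hM 1)
    rwa [show XD q t = C.n 1 * XC q (e'⁻¹ * t) * (C.n 1)⁻¹ by
      rw [hc', ← mul_assoc, mul_inv_cancel₀ he', one_mul], show (C.n 1)⁻¹ *
      (C.n 1 * XC q (e'⁻¹ * t) * (C.n 1)⁻¹) * C.n 1 = XC q (e'⁻¹ * t) by group] at this
  have h2 : XA q (e⁻¹ * (e'⁻¹ * t)) ∈ H := by
    have := mul_mem (mul_mem (inv_mem (C.n_in hM 0)) h1) (C.n_in hM 0)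
    rwa [show XC q (e'⁻¹ * t) = C.n 0 * XA q (e⁻¹ * (e'⁻¹ * t)) * (C.n 0)⁻¹ by
      rw [hc, ← mul_assoc, mul_inv_cancel₀ he, one_mul], show (C.n 0)⁻¹ *
      (C.n 0 * XA q (e⁻¹ * (e'⁻¹ * t)) * (C.n 0)⁻¹) * C.n 0 = XA q (e⁻¹ * (e'⁻¹ * t)) by group] at this
  have h3 := C.scale_in hM h2 (fix_mul heq heq')
  rwa [show e * e' * (e⁻¹ * (e'⁻¹ * t)) = t by field_simp] at h3

include hH hM in
theorem step3 {y : GL chevD4.Idx F} (hy : y ∈ H) (hU : y ∈ Um F 3) (hφ : C.phi y ≠ y) :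
    ∃ t, XA q t ∈ H ∧ t ^ q ≠ t := by
  obtain ⟨t, -, hw⟩ := C.split3 (hH hy) hU
  have hwS : (XD q t)⁻¹ * y ∈ C.S := mul_mem (inv_mem (C.XD_mem t)) (hH hy)
  have hD : XD q t ∈ H := by
    have := mul_mem hy (inv_mem (C.U4_in hM hwS hw))
    simpa using this
  refine ⟨t, C.XD_to_XA hM hD, fun ht => hφ ?_⟩
  obtain ⟨s, u, hs, hu, e⟩ := C.split4 hwS hw
  rw [inv_mul_eq_iff_eq_mul] at e
  rw [e, map_mul, map_mul, C.phi_XD, C.phi_x 22 (by norm_num), C.phi_x 23 (by norm_num), ht, hs, hu]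

include hH hM in
theorem step2 {y : GL chevD4.Idx F} (hy : y ∈ H) (hU : y ∈ Um F 2) (hφ : C.phi y ≠ y) :
    ∃ t, XA q t ∈ H ∧ t ^ q ≠ t := by
  obtain ⟨t, -, hw⟩ := C.split2 (hH hy) hU
  set z := (XC q t)⁻¹ * y with hz
  have ey : y = XC q t * z := by rw [hz, mul_inv_cancel_left]
  by_cases ht : t ^ q = t
  · refine C.step3 hH hM (mul_mem (inv_mem (C.XC_in hM ht)) hy) hw fun h => hφ ?_
    rw [ey, map_mul, C.phi_XC, ht, h]
  have hA := C.XA_in hM (one_pow q : (1 : F) ^ q = 1)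
  obtain ⟨w, hw4, hwS, hK⟩ := C.bracketAC 1 t
  set f := -((1 : F) ^ q * t ^ (q ^ 2) + (1 : F) ^ (q ^ 2) * t ^ q) with hf
  have hy2 : br (XA q 1) y ∈ H := mul_mem (mul_mem (mul_mem hA hy) (inv_mem hA)) (inv_mem hy)
  have e : br (XA q 1) y = XD q f * (w * (XC q t * br (XA q 1) z * (XC q t)⁻¹)) := by
    rw [ey, br_mul_right, hK]; group
  have h4 : w * (XC q t * br (XA q 1) z * (XC q t)⁻¹) ∈ Um F 4 :=
    mul_mem hw4 (Um_conj (by norm_num) (Um_mono (by norm_num) (C.XC_mem_U t))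
      ((show (3 : ℤ) + 1 = 4 by norm_num) ▸ br_up (by norm_num) (C.XA_mem_U 1) hw))
  have hD : XD q f ∈ H := by
    have hS := hH hy2
    rw [e] at hy2 hS
    have h4S : w * (XC q t * br (XA q 1) z * (XC q t)⁻¹) ∈ C.S := by
      have := mul_mem (inv_mem (C.XD_mem f)) hS
      rwa [inv_mul_cancel_left] at this
    have := mul_mem hy2 (inv_mem (C.U4_in hM h4S h4))
    rwa [mul_inv_cancel_right] at this
  refine ⟨f, C.XD_to_XA hM hD, fun h => ht ?_⟩
  simp only [hf, one_pow, one_mul, C.neg_pow', C.add, C.pow_q3, pow_q2 C, neg_inj] at h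
  linear_combination -h

include hH hM in
theorem step1 {y : GL chevD4.Idx F} (hy : y ∈ H) (hU : y ∈ Um F 1) (hφ : C.phi y ≠ y) :
    ∃ t, XA q t ∈ H ∧ t ^ q ≠ t := by
  obtain ⟨s, t, hs, -, hw⟩ := C.split1 (hH hy) hU
  set z := (x 14 s * XA q t)⁻¹ * y with hz
  have ey : y = x 14 s * (XA q t * z) := by rw [hz]; group
  have hbs := C.x_in hM 14 (by simp) hs
  by_cases ht : t ^ q = t
  · refine C.step2 hH hM (mul_mem (inv_mem (mul_mem hbs (C.XA_in hM ht))) hy) hw fun h => hφ ?_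
    rw [ey, map_mul, map_mul, C.phi_x 14 (by norm_num), C.phi_XA, hs, ht, h]
  have hb1 := C.x_in hM 14 (by simp) (one_pow q : (1 : F) ^ q = 1)
  obtain ⟨w, hw4, -, hK⟩ := C.bracketBA (one_pow q : (1 : F) ^ q = 1) t
  rw [one_mul, one_mul] at hK
  have hy1 : XA q t * z ∈ H := by
    have := mul_mem (inv_mem hbs) hy
    rwa [ey, inv_mul_cancel_left] at this
  have hy2 : br (x 14 1) (XA q t * z) ∈ H :=
    mul_mem (mul_mem (mul_mem hb1 hy1) (inv_mem hb1)) (inv_mem hy1)
  have e : br (x 14 1) (XA q t * z) = XC q t *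
      (XD q (-(t ^ q * t ^ (q ^ 2))) * w * (XA q t * br (x 14 1) z * (XA q t)⁻¹)) := by
    rw [br_mul_right, hK]; group
  set v := XD q (-(t ^ q * t ^ (q ^ 2))) * w * (XA q t * br (x 14 1) z * (XA q t)⁻¹)
  have hv : v ∈ Um F 3 := mul_mem (mul_mem (C.XD_mem_U _) (Um_mono (by norm_num) hw4))
    (Um_conj (by norm_num) (C.XA_mem_U t)
      ((show (2 : ℤ) + 1 = 3 by norm_num) ▸ br_up (by norm_num)
        (xg_mem_Um (by norm_num) (by decide +kernel) 1) hw))
  rw [e] at hy2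
  refine C.step2 hH hM hy2 (mul_mem (C.XC_mem_U t) (Um_mono (by norm_num) hv)) fun h => ht ?_
  have hd : ∀ u : F, ∀ v' ∈ Um F 3, ∀ d, Vec 2 (XC q u * v') d → d 19 = u := by
    intro u v' hv' d hd
    have h2 : (1 : ℤ) ≤ 2 := by norm_num
    rw [hd.unique good h2 ((C.vec_XC u).mul good h2 (vec_of_next good hv'))]
    simp
  obtain ⟨d, hd'⟩ := exists_vec good (show (1 : ℤ) ≤ 2 by norm_num)
    (mul_mem (C.XC_mem_U t) (Um_mono (by norm_num) hv) : XC q t * v ∈ Um F 2)
  rw [map_mul, C.phi_XC] at h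
  have hphiv : C.phi v ∈ Um F 3 := by
    have : ∀ g ∈ Um F 3, C.phi g ∈ Um F 3 := by
      intro g hg
      induction hg using Subgroup.closure_induction with
      | mem g hg =>
        obtain ⟨r, u, hr, hS, rfl⟩ := hg
        rw [C.phi_x r hr]; exact xg_mem_XS hr hS _
      | one => rw [map_one]; exact one_mem _
      | mul a b _ _ ha hb => rw [map_mul]; exact mul_mem ha hb
      | inv a _ ha => rw [map_inv]; exact inv_mem ha
    exact this v hv
  exact (hd _ _ hphiv d (h ▸ hd')).symm.trans (hd _ _ hv d hd')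

include hM in
/-- One root element of a short root outside the subfield gives all of them. -/
theorem XA_all {c : F} (hc : XA q c ∈ H) (hcq : c ^ q ≠ c) (z : F) : XA q z ∈ H := by
  let E : Set F := {t | XA q t ∈ H}
  have hadd : ∀ {t u}, t ∈ E → u ∈ E → t + u ∈ E := fun {t u} ht hu => by
    show XA q (t + u) ∈ H
    rw [C.XA_add]; exact mul_mem ht hu
  have hsc : ∀ {t μ}, t ∈ E → μ ^ q = μ → μ * t ∈ E := fun ht hμ => C.scale_in hM ht hμ
  have hfx : ∀ {t : F}, t ^ q = t → t ∈ E := fun ht => C.XA_in hM ht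
  have hinv : ∀ {t}, t ∈ E → t⁻¹ ∈ E := by
    intro t ht
    rcases eq_or_ne t 0 with rfl | hne
    · rw [inv_zero]; exact ht
    have hb1 := C.x_in hM 14 (by simp) (one_pow q : (1 : F) ^ q = 1)
    obtain ⟨w, hw4, hwS, hK⟩ := C.bracketBA (one_pow q : (1 : F) ^ q = 1) t
    rw [one_mul, one_mul] at hK
    have hy : br (x 14 1) (XA q t) ∈ H :=
      mul_mem (mul_mem (mul_mem hb1 ht) (inv_mem hb1)) (inv_mem ht)
    rw [hK] at hy
    have hD : XD q (-(t ^ q * t ^ (q ^ 2))) ∈ H := by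
      have := mul_mem (mul_mem (inv_mem (C.XA_to_XC hM ht)) hy) (inv_mem (C.U4_in hM hwS hw4))
      simpa [mul_assoc] using this
    have h := hsc (C.XD_to_XA hM hD) (C.fix_neg (fix_inv (C.norm_fix t)))
    have e : -(t * t ^ q * t ^ (q ^ 2))⁻¹ * -(t ^ q * t ^ (q ^ 2)) = t⁻¹ := by
      have := pow_ne_zero q hne
      have := pow_ne_zero (q ^ 2) hne
      field_simp
    rwa [e] at h
  have hsq : c ^ 2 ∈ E := by
    have hne : c ≠ 0 := by rintro rfl; exact hcq C.zero_pow'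
    have hne1 : c + 1 ≠ 0 := by
      intro e
      rw [eq_neg_of_add_eq_zero_left e] at hcq
      exact hcq (C.fix_neg (one_pow q))
    have h1 := hinv (hadd (hinv hc) (hsc (hinv (hadd hc (hfx (one_pow q)))) (C.fix_neg (one_pow q))))
    have h2 := hadd h1 (hsc hc (C.fix_neg (one_pow q)))
    rwa [show (c⁻¹ + -1 * (c + 1)⁻¹)⁻¹ + -1 * c = c ^ 2 by field_simp; ring] at h2
  obtain ⟨a, b, w, ha, hb, hw, rfl⟩ := C.span3 hcq z
  exact hadd (hadd (hfx ha) (hsc hc hb)) (hsc hsq hw)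

include hH hM in
/-- A subgroup containing the subfield subgroup and a further unipotent element is everything. -/
theorem eq_top_of_unipotent {y : GL chevD4.Idx F} (hy : y ∈ H) (hU : y ∈ Um F 1) (hφ : C.phi y ≠ y) :
    H = C.S := by
  obtain ⟨c, hc, hcq⟩ := C.step1 hH hM hy hU hφ
  have hall := C.XA_all hM hc hcq
  refine le_antisymm hH ?_
  rw [C.S_eq, twistedD4, ChevalleyDatum.genSubgroup, Subgroup.closure_le]
  intro g hg
  have hgS : g ∈ C.S := by rw [C.S_eq]; exact Subgroup.subset_closure hg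
  obtain ⟨w, hw, hgw⟩ := hg
  have hgw' : g = wordG chevD4 F w := Units.ext (by rw [hgw, goodG.val_wordG])
  rcases hw with ⟨t, ht, r, hr, rfl⟩ | ⟨t, rs, hr, rfl⟩
  · have hg1 : g = x r t := by rw [hgw']; simp [wordG]
    refine hM g hgS ?_
    simp only [List.mem_cons, List.not_mem_nil, or_false] at hr
    rw [hg1, C.phi_x r (by rcases hr with rfl | rfl <;> norm_num [d4p2, d4m2]), ht]
  · simp only [List.mem_cons, List.not_mem_nil, or_false] at hr
    rcases hr with rfl | rfl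
    · have e : g = XA q t := by rw [hgw']; simp [wordG, XA, d4p1, d4p3, d4p4, mul_assoc]
      rw [e]; exact hall t
    · obtain ⟨e1, he1, -, h1⟩ := C.n_conj 1 18 (by norm_num)
      obtain ⟨e2, he2, -, h2⟩ := C.n_conj 1 13 (by norm_num)
      obtain ⟨e3, he3, -, h3⟩ := C.n_conj 1 12 (by norm_num)
      have e : g = C.n 1 * (x 18 (e1⁻¹ * t) * x 13 (e2⁻¹ * t ^ q) * x 12 (e3⁻¹ * t ^ (q ^ 2))) * (C.n 1)⁻¹ := by
        rw [conj3, h1, h2, h3, ← mul_assoc, mul_inv_cancel₀ he1, ← mul_assoc e2, mul_inv_cancel₀ he2,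
          ← mul_assoc e3, mul_inv_cancel₀ he3, one_mul, one_mul, one_mul, hgw']
        simp [wordG, wref, d4m1, d4m3, d4m4, mul_assoc]
      have hn := C.n_in hM 1
      rw [e] at hgS ⊢
      have hin : x 18 (e1⁻¹ * t) * x 13 (e2⁻¹ * t ^ q) * x 12 (e3⁻¹ * t ^ (q ^ 2)) ∈ C.S := by
        have := mul_mem (mul_mem (inv_mem (C.n_mem 1)) hgS) (C.n_mem 1)
        simpa [mul_assoc] using this
      rw [C.tri_A hin]
      exact mul_mem (mul_mem hn (hall _)) (inv_mem hn)

end Ctx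

end Cfsg.Agent.D4SubMax
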