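import Cfsg.Agent.D4SubMax.Base
import Cfsg.Agent.Lib.ChevGen.TwoGen

/-!
The height layers of the positive unipotent part of `³D₄`: the shape of the coordinates of fixed elements, and
the root elements of the orbits.
-/

set_option autoImplicit false

namespace Cfsg.Agent.D4SubMax

open Cfsg.Lie Cfsg.Agent.ChevCore Cfsg.Agent.Chev54

variable {F : Type*} [Field F] {q : ℕ}

local notation "x" => xg chevD4 F

/-- The subgroup of height at least `m`. -/
noncomputable abbrev Um (F : Type*) [Field F] (m : ℤ) : Subgroup (GL chevD4.Idx F) :=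
  XS chevD4 F (htGe chevD4 m)

theorem good : UGood chevD4 := uGoodD4

theorem goodG : Good chevD4 := uGoodD4.toCommGood.toGood

theorem ht_table : ∀ r : Fin 24, ht chevD4 r.val =
    ([-5, -4, -3, -3, -2, -1, -3, -2, -2, -1, -1, -1, 1, 1, 1, 2, 2, 3, 1, 2, 3, 3, 4, 5] : List ℤ).getD r.val 0 := by
  decide +kernel

theorem nroots_eq : chevD4.nroots = 24 := rfl

theorem comm0 {r s : ℕ} (h : r < 24 ∧ s < 24 ∧ s ≠ r ∧ s ≠ chevD4.neg r ∧ chevD4.commTerms r s = [])
    (t u : F) : x r t * x s u = x s u * x r t :=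
  (ChevGen.xg_commute good.toCommGood h.1 h.2.1 h.2.2.1 h.2.2.2.1 h.2.2.2.2 t u).eq

theorem comm1 {r s k : ℕ} {M : ℤ}
    (h : r < 24 ∧ s < 24 ∧ s ≠ r ∧ s ≠ chevD4.neg r ∧ chevD4.commTerms r s = [(k, M, 1, 1)])
    (t u : F) : x r t * x s u = x s u * x r t * x k ((M : F) * t * u) := by
  have h1 := good.toCommGood.xg_comm (F := F) h.1 h.2.1 h.2.2.1 h.2.2.2.1 t u
  simp only [ChevalleyDatum.commWord, h.2.2.2.2, wordG, List.map_cons, List.map_nil, List.prod_cons,
    List.prod_nil, mul_one, pow_one] at h1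
  rw [h1, mul_assoc (x r t * x s u), ← goodG.xg_add,
    show (M : F) * -t * u + (M : F) * t * u = 0 by ring, goodG.xg_zero, mul_one]

/-- The coordinates of the image under the endomorphism. -/
def imgC (q : ℕ) (d : ℕ → F) (r : ℕ) : F := (eps (rho (rho r)) : F) * d (rho (rho r)) ^ q

/-- Triples over the orbits of short roots. -/
noncomputable def XA (q : ℕ) (t : F) : GL chevD4.Idx F := x 18 t * x 13 (t ^ q) * x 12 (t ^ (q ^ 2))

/-- The orbit of height two. -/
noncomputable def XC (q : ℕ) (t : F) : GL chevD4.Idx F :=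
  x 19 t * x 16 (-(t ^ q)) * x 15 (-(t ^ (q ^ 2)))

/-- The orbit of height three. -/
noncomputable def XD (q : ℕ) (t : F) : GL chevD4.Idx F :=
  x 17 t * x 20 (-(t ^ q)) * x 21 (-(t ^ (q ^ 2)))

theorem xg_mem_Um {r : ℕ} {m : ℤ} (hr : r < 24) (hm : m ≤ ht chevD4 r) (t : F) : x r t ∈ Um F m :=
  xg_mem_XS hr hm t

theorem Um_mono {m m' : ℤ} (h : m ≤ m') : Um F m' ≤ Um F m :=
  XS_mono fun r (hr : m' ≤ ht chevD4 r) => show m ≤ ht chevD4 r by omega

theorem Um_conj {m : ℤ} (hm : 1 ≤ m) {g y : GL chevD4.Idx F} (hg : g ∈ Um F 1) (hy : y ∈ Um F m) :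
    g * y * g⁻¹ ∈ Um F m :=
  (Subgroup.mem_normalizer_iff.1 (good.U_le_normalizer hm hg) _).1 hy

theorem ht_of {r : ℕ} {m : ℤ} (hr : r < 24)
    (h : ([-5, -4, -3, -3, -2, -1, -3, -2, -2, -1, -1, -1, 1, 1, 1, 2, 2, 3, 1, 2, 3, 3, 4, 5] : List ℤ).getD r 0 = m) :
    ht chevD4 r = m := (ht_table ⟨r, hr⟩).trans h

namespace Ctx

variable (C : Ctx F q)
include C

theorem pow_add' (t u : F) : (t + u) ^ q = t ^ q + u ^ q := C.add t u

theorem zero_pow' : (0 : F) ^ q = 0 := zero_pow (by have := C.q_two; omega)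

theorem neg_pow' (t : F) : (-t) ^ q = -(t ^ q) := by
  have h := C.add t (-t)
  rw [add_neg_cancel, C.zero_pow'] at h
  exact eq_neg_of_add_eq_zero_right h.symm

theorem sub_pow' (t u : F) : (t - u) ^ q = t ^ q - u ^ q := by
  rw [sub_eq_add_neg, C.add, C.neg_pow', ← sub_eq_add_neg]

theorem pow_q2 (t : F) : (t ^ q) ^ q = t ^ (q ^ 2) := by rw [← pow_mul, pow_two]

theorem pow_q3 (t : F) : (t ^ (q ^ 2)) ^ q = t := by rw [← pow_mul, ← pow_succ]; exact C.per t

theorem eps_pow (r : ℕ) : (eps r : F) ^ q = eps r := by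
  have h : eps r = 1 ∨ eps r = -1 := by
    by_cases hr : r < 24
    · have : ∀ r : Fin 24, eps r.val = 1 ∨ eps r.val = -1 := by decide +kernel
      exact this ⟨r, hr⟩
    · left; simp [eps, List.getElem?_eq_none (l := ([1, 1, -1, 1, -1, 1, -1, 1, -1, 1, 1, 1, 1, 1, 1, -1, 1, -1, 1, -1, 1, -1, 1, 1] : List ℤ)) (show 24 ≤ r by omega)]
  rcases h with h | h <;> rw [h]
  · simp
  · rw [Int.cast_neg, Int.cast_one, C.neg_pow', one_pow]

theorem mem_group {m : ℤ} {g : GL chevD4.Idx F} (hg : g ∈ Um F m) : g ∈ chevD4.group F := by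
  rw [goodG.group_eq]; exact XS_mono (Set.subset_univ _) hg

theorem sg_one : C.sg 1 = 1 := C.fixed 1 (one_mem _)

theorem sg_inv {g : GL chevD4.Idx F} (hg : g ∈ chevD4.group F) : C.sg g⁻¹ = (C.sg g)⁻¹ := by
  refine eq_inv_of_mul_eq_one_left ?_
  rw [← C.sg_mul _ (inv_mem hg) _ hg, inv_mul_cancel, C.sg_one]

theorem imgC_add (d d' : ℕ → F) : imgC q (d + d') = imgC q d + imgC q d' := by
  funext r
  simp only [imgC, Pi.add_apply, C.add, mul_add]

theorem imgC_zero : imgC q (fun _ => (0 : F)) = fun _ => 0 := by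
  funext r; simp [imgC, C.zero_pow']

theorem imgC_single {r : ℕ} (hr : r < 24) (t : F) :
    imgC q (Pi.single r t) = Pi.single (rho r) ((eps r : F) * t ^ q) := by
  have h3 : ∀ r : Fin 24, rho (rho (rho r.val)) = r.val := by decide +kernel
  have hinj : ∀ s, rho (rho s) = r ↔ s = rho r := by
    intro s
    constructor
    · intro h
      by_cases hs : s < 24
      · rw [← h, h3 ⟨s, hs⟩]
      · have hf : ∀ s, ¬ s < 24 → rho s = s := fun s hs => by
          simp [rho, List.getElem?_eq_none (l := ([0, 1, 6, 2, 7, 10, 3, 8, 4, 9, 11, 5, 18, 12, 14, 19, 15, 20, 13, 16, 21, 17, 22, 23] : List ℕ)) (show 24 ≤ s by omega)]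
        rw [hf s hs, hf s hs] at h
        omega
    · rintro rfl; exact h3 ⟨r, hr⟩
  funext s
  rw [imgC]
  by_cases hs : s = rho r
  · subst hs; rw [(hinj _).2 rfl]; simp
  · rw [Pi.single_eq_of_ne (fun h => hs ((hinj s).1 h)), Pi.single_eq_of_ne hs, C.zero_pow', mul_zero]

/-- The endomorphism on coordinates. -/
theorem vec_sg {m : ℤ} (hm : 1 ≤ m) {g : GL chevD4.Idx F} (hg : g ∈ Um F m) :
    ∀ d, Vec m g d → Vec m (C.sg g) (imgC q d) := by
  have hht : ∀ r : Fin 24, ht chevD4 (rho r.val) = ht chevD4 r.val := by decide +kernel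
  induction hg using Subgroup.closure_induction with
  | mem y hy =>
    obtain ⟨r, t, hr, hS, rfl⟩ := hy
    have hS' : m ≤ ht chevD4 r := hS
    have hr' : r < 24 := hr
    have hre : ht chevD4 (rho r) = ht chevD4 r := hht ⟨r, hr'⟩
    intro d hd
    rw [C.sg_x r hr']
    rcases hS'.lt_or_eq with hlt | heq
    · have hd0 : d = fun _ => 0 :=
        hd.unique good hm (vec_of_next good (xg_mem_XS hr (show m + 1 ≤ ht chevD4 r by omega) t))
      rw [hd0, C.imgC_zero]
      exact vec_of_next good (xg_mem_XS (rho_lt hr') (show m + 1 ≤ ht chevD4 (rho r) by omega) _)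
    · have hd0 : d = Pi.single r t := by
        refine hd.unique good hm ?_
        rw [heq]; exact vec_xg good hr (by omega) t
      rw [hd0, C.imgC_single hr', heq, ← hre]
      exact vec_xg good (rho_lt hr') (by omega) _
  | one =>
    intro d hd
    rw [hd.unique good hm (vec_of_next good (one_mem _)), C.imgC_zero, C.sg_one]
    exact vec_of_next good (one_mem _)
  | mul a b ha hb iha ihb =>
    intro d hd
    obtain ⟨da, hda⟩ := exists_vec good hm ha
    obtain ⟨db, hdb⟩ := exists_vec good hm hb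
    rw [hd.unique good hm (hda.mul good hm hdb), C.imgC_add,
      C.sg_mul a (C.mem_group ha) b (C.mem_group hb)]
    exact (iha da hda).mul good hm (ihb db hdb)
  | inv a ha iha =>
    intro d hd
    obtain ⟨da, hda⟩ := exists_vec good hm ha
    rw [hd.unique good hm (hda.inv good hm), C.sg_inv (C.mem_group ha)]
    have : imgC q (-da) = -imgC q da := by
      funext r; simp [imgC, C.neg_pow']
    rw [this]
    exact (iha da hda).inv good hm

/-- Coordinates of an element of the twisted group. -/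
theorem pattern {m : ℤ} (hm : 1 ≤ m) {g : GL chevD4.Idx F} {d : ℕ → F} (hS : g ∈ C.S)
    (hd : Vec m g d) : ∀ r, d r = imgC q d r := by
  have h := C.vec_sg hm (hd.mem good) d hd
  rw [C.fixed g hS] at h
  exact congrFun (hd.unique good hm h)

theorem sg_word3 {a b c : ℕ} (ha : a < 24) (hb : b < 24) (hc : c < 24) (u v w : F) :
    C.sg (x a u * x b v * x c w) = x (rho a) ((eps a : F) * u ^ q) * x (rho b) ((eps b : F) * v ^ q) *
      x (rho c) ((eps c : F) * w ^ q) := by
  have hmem := fun (r : ℕ) (t : F) => goodG.xg_mem_group (F := F) r t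
  rw [C.sg_mul _ (mul_mem (hmem a u) (hmem b v)) _ (hmem c w), C.sg_mul _ (hmem a u) _ (hmem b v),
    C.sg_x a ha, C.sg_x b hb, C.sg_x c hc]

theorem XA_mem_U (t : F) : XA q t ∈ Um F 1 := by
  refine mul_mem (mul_mem ?_ ?_) ?_ <;> exact xg_mem_Um (by norm_num) (by decide +kernel) _

theorem XC_mem_U (t : F) : XC q t ∈ Um F 2 := by
  refine mul_mem (mul_mem ?_ ?_) ?_ <;> exact xg_mem_Um (by norm_num) (by decide +kernel) _

theorem XD_mem_U (t : F) : XD q t ∈ Um F 3 := by
  refine mul_mem (mul_mem ?_ ?_) ?_ <;> exact xg_mem_Um (by norm_num) (by decide +kernel) _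

theorem XA_mem (t : F) : XA q t ∈ C.S := by
  refine C.full _ (C.XA_mem_U t) ?_
  rw [XA, C.sg_word3 (by norm_num) (by norm_num) (by norm_num), pow_q2 C, C.pow_q3]
  simp only [show rho 18 = 13 from rfl, show rho 13 = 12 from rfl, show rho 12 = 18 from rfl,
    show eps 18 = 1 from rfl, show eps 13 = 1 from rfl, show eps 12 = 1 from rfl, Int.cast_one, one_mul]
  rw [mul_assoc, comm0 (r := 12) (s := 18) (by decide +kernel), ← mul_assoc,
    comm0 (r := 13) (s := 18) (by decide +kernel)]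

theorem XC_mem (t : F) : XC q t ∈ C.S := by
  refine C.full _ (Um_mono (show (1 : ℤ) ≤ 2 by norm_num) (C.XC_mem_U t)) ?_
  rw [XC, C.sg_word3 (by norm_num) (by norm_num) (by norm_num), C.neg_pow', C.neg_pow', pow_q2 C,
    C.pow_q3]
  simp only [show rho 19 = 16 from rfl, show rho 16 = 15 from rfl, show rho 15 = 19 from rfl,
    show eps 19 = -1 from rfl, show eps 16 = 1 from rfl, show eps 15 = -1 from rfl, Int.cast_one,
    Int.cast_neg, one_mul, neg_one_mul, neg_neg]
  rw [mul_assoc, comm0 (r := 15) (s := 19) (by decide +kernel), ← mul_assoc,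
    comm0 (r := 16) (s := 19) (by decide +kernel)]

theorem XD_mem (t : F) : XD q t ∈ C.S := by
  refine C.full _ (Um_mono (show (1 : ℤ) ≤ 3 by norm_num) (C.XD_mem_U t)) ?_
  rw [XD, C.sg_word3 (by norm_num) (by norm_num) (by norm_num), C.neg_pow', C.neg_pow', pow_q2 C,
    C.pow_q3]
  simp only [show rho 17 = 20 from rfl, show rho 20 = 21 from rfl, show rho 21 = 17 from rfl,
    show eps 17 = -1 from rfl, show eps 20 = 1 from rfl, show eps 21 = -1 from rfl, Int.cast_one,
    Int.cast_neg, one_mul, neg_one_mul, neg_neg]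
  rw [mul_assoc, comm0 (r := 21) (s := 17) (by decide +kernel), ← mul_assoc,
    comm0 (r := 20) (s := 17) (by decide +kernel)]

theorem xg_mem (r : ℕ) (hr : r = 14 ∨ r = 22 ∨ r = 23) {t : F} (ht : t ^ q = t) : x r t ∈ C.S := by
  have hr' : r < 24 := by omega
  refine C.full _ (xg_mem_Um hr' ?_ t) ?_
  · rcases hr with rfl | rfl | rfl <;> decide +kernel
  · rw [C.sg_x r hr', ht]
    rcases hr with rfl | rfl | rfl <;> simp [rho, eps]

theorem phi_XA (t : F) : C.phi (XA q t) = XA q (t ^ q) := by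
  simp only [XA, map_mul, C.phi_x 18 (by norm_num), C.phi_x 13 (by norm_num),
    C.phi_x 12 (by norm_num), ← pow_mul, mul_comm]

theorem phi_XC (t : F) : C.phi (XC q t) = XC q (t ^ q) := by
  simp only [XC, map_mul, C.phi_x 19 (by norm_num), C.phi_x 16 (by norm_num),
    C.phi_x 15 (by norm_num), C.neg_pow', ← pow_mul, mul_comm]

theorem phi_XD (t : F) : C.phi (XD q t) = XD q (t ^ q) := by
  simp only [XD, map_mul, C.phi_x 17 (by norm_num), C.phi_x 20 (by norm_num),
    C.phi_x 21 (by norm_num), C.neg_pow', ← pow_mul, mul_comm]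

theorem vec_XA (t : F) : Vec 1 (XA q t)
    (Pi.single 18 t + Pi.single 13 (t ^ q) + Pi.single 12 (t ^ (q ^ 2))) := by
  have h := fun (r : ℕ) (hr : r < 24) (e : ht chevD4 r = 1) (u : F) =>
    e ▸ vec_xg good (D := chevD4) hr (by omega) u
  exact ((h 18 (by norm_num) (by decide +kernel) _).mul good le_rfl
    (h 13 (by norm_num) (by decide +kernel) _)).mul good le_rfl (h 12 (by norm_num) (by decide +kernel) _)

theorem vec_XC (t : F) : Vec 2 (XC q t)
    (Pi.single 19 t + Pi.single 16 (-(t ^ q)) + Pi.single 15 (-(t ^ (q ^ 2)))) := by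
  have h := fun (r : ℕ) (hr : r < 24) (e : ht chevD4 r = 2) (u : F) =>
    e ▸ vec_xg good (D := chevD4) hr (by omega) u
  exact ((h 19 (by norm_num) (by decide +kernel) _).mul good (by norm_num)
    (h 16 (by norm_num) (by decide +kernel) _)).mul good (by norm_num)
    (h 15 (by norm_num) (by decide +kernel) _)

theorem vec_XD (t : F) : Vec 3 (XD q t)
    (Pi.single 17 t + Pi.single 20 (-(t ^ q)) + Pi.single 21 (-(t ^ (q ^ 2)))) := by
  have h := fun (r : ℕ) (hr : r < 24) (e : ht chevD4 r = 3) (u : F) =>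
    e ▸ vec_xg good (D := chevD4) hr (by omega) u
  exact ((h 17 (by norm_num) (by decide +kernel) _).mul good (by norm_num)
    (h 20 (by norm_num) (by decide +kernel) _)).mul good (by norm_num)
    (h 21 (by norm_num) (by decide +kernel) _)

omit C in
theorem diff_mem {m n : ℤ} (hn : m + 1 = n) (hm : 1 ≤ m) {a y : GL chevD4.Idx F} {d : ℕ → F}
    (ha : Vec m a d) (hy : Vec m y d) : a⁻¹ * y ∈ Um F n := by
  subst hn
  have h := (ha.inv good hm).mul good hm hy
  rw [neg_add_cancel] at h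
  have h0 : prodL chevD4 F (posL (D := chevD4)) (0 : ℕ → F) = 1 := prodL_zero good _
  have := h.2
  rwa [h0, inv_one, one_mul] at this

omit C in
theorem supp_zero {m : ℤ} {g : GL chevD4.Idx F} {d : ℕ → F} (hd : Vec m g d) {r : ℕ}
    (h : ¬ (r < 24 ∧ ht chevD4 r = m)) : d r = 0 := by
  by_contra e
  exact h (hd.1 r e)

omit C in
theorem supp_ext {m : ℤ} {g g' : GL chevD4.Idx F} {d d' : ℕ → F} (hd : Vec m g d) (hd' : Vec m g' d')
    (L : List ℕ) (hL : ∀ r : Fin 24, ht chevD4 r.val = m → r.val ∈ L) (h : ∀ r ∈ L, d r = d' r) :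
    d = d' := by
  funext r
  by_cases hr : r < 24 ∧ ht chevD4 r = m
  · exact h r (hL ⟨r, hr.1⟩ hr.2)
  · rw [supp_zero hd hr, supp_zero hd' hr]

/-- Peeling the first layer. -/
theorem split1 {y : GL chevD4.Idx F} (hS : y ∈ C.S) (hy : y ∈ Um F 1) :
    ∃ s t : F, s ^ q = s ∧ (∀ d, Vec 1 y d → d 14 = s ∧ d 18 = t) ∧
      (x 14 s * XA q t)⁻¹ * y ∈ Um F 2 := by
  obtain ⟨d, hd⟩ := exists_vec good le_rfl hy
  have p := C.pattern le_rfl hS hd
  refine ⟨d 14, d 18, ?_, fun d' hd' => by rw [hd'.unique good le_rfl hd]; exact ⟨rfl, rfl⟩, ?_⟩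
  · have := p 14
    simp only [imgC, show rho 14 = 14 from rfl, show eps 14 = 1 from rfl, Int.cast_one, one_mul] at this
    exact this.symm
  · have h13 : d 13 = d 18 ^ q := by
      have := p 13
      simp only [imgC, show rho 13 = 12 from rfl, show rho 12 = 18 from rfl, show eps 18 = 1 from rfl,
        Int.cast_one, one_mul] at this
      exact this
    have h12 : d 12 = d 18 ^ (q ^ 2) := by
      have := p 12
      simp only [imgC, show rho 12 = 18 from rfl, show rho 18 = 13 from rfl, show eps 13 = 1 from rfl,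
        Int.cast_one, one_mul] at this
      rw [this, h13, pow_q2 C]
    have hb : Vec 1 (x 14 (d 14)) (Pi.single 14 (d 14)) := by
      have e : ht chevD4 14 = 1 := by decide +kernel
      exact e ▸ vec_xg good (D := chevD4) (by norm_num [nroots_eq]) (by omega) _
    refine diff_mem (m := 1) (by norm_num) le_rfl ?_ hd
    have hv := hb.mul good le_rfl (C.vec_XA (d 18))
    refine (Eq.subst (motive := fun e => Vec 1 (x 14 (d 14) * XA q (d 18)) e) ?_ hv)
    refine supp_ext hv hd [12, 13, 14, 18] (by decide +kernel) ?_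
    simp [h13, h12]

/-- Peeling the second layer. -/
theorem split2 {y : GL chevD4.Idx F} (hS : y ∈ C.S) (hy : y ∈ Um F 2) :
    ∃ t : F, (∀ d, Vec 2 y d → d 19 = t) ∧ (XC q t)⁻¹ * y ∈ Um F 3 := by
  obtain ⟨d, hd⟩ := exists_vec good (show (1 : ℤ) ≤ 2 by norm_num) hy
  have p := C.pattern (show (1 : ℤ) ≤ 2 by norm_num) hS hd
  refine ⟨d 19, fun d' hd' => by rw [hd'.unique good (by norm_num) hd], ?_⟩
  have h16 : d 16 = -(d 19 ^ q) := by
    have := p 16
    simp only [imgC, show rho 16 = 15 from rfl, show rho 15 = 19 from rfl, show eps 19 = -1 from rfl,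
      Int.cast_neg, Int.cast_one, neg_one_mul] at this
    exact this
  have h15 : d 15 = -(d 19 ^ (q ^ 2)) := by
    have := p 15
    simp only [imgC, show rho 15 = 19 from rfl, show rho 19 = 16 from rfl, show eps 16 = 1 from rfl,
      Int.cast_one, one_mul] at this
    rw [this, h16, C.neg_pow', pow_q2 C]
  refine diff_mem (m := 2) (by norm_num) (by norm_num) ?_ hd
  have hv := C.vec_XC (d 19)
  refine (Eq.subst (motive := fun e => Vec 2 (XC q (d 19)) e) ?_ hv)
  refine supp_ext hv hd [15, 16, 19] (by decide +kernel) ?_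
  simp [h16, h15]

/-- Peeling the third layer. -/
theorem split3 {y : GL chevD4.Idx F} (hS : y ∈ C.S) (hy : y ∈ Um F 3) :
    ∃ t : F, (∀ d, Vec 3 y d → d 17 = t) ∧ (XD q t)⁻¹ * y ∈ Um F 4 := by
  obtain ⟨d, hd⟩ := exists_vec good (show (1 : ℤ) ≤ 3 by norm_num) hy
  have p := C.pattern (show (1 : ℤ) ≤ 3 by norm_num) hS hd
  refine ⟨d 17, fun d' hd' => by rw [hd'.unique good (by norm_num) hd], ?_⟩
  have h20 : d 20 = -(d 17 ^ q) := by
    have := p 20
    simp only [imgC, show rho 20 = 21 from rfl, show rho 21 = 17 from rfl, show eps 17 = -1 from rfl,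
      Int.cast_neg, Int.cast_one, neg_one_mul] at this
    exact this
  have h21 : d 21 = -(d 17 ^ (q ^ 2)) := by
    have := p 21
    simp only [imgC, show rho 21 = 17 from rfl, show rho 17 = 20 from rfl, show eps 20 = 1 from rfl,
      Int.cast_one, one_mul] at this
    rw [this, h20, C.neg_pow', pow_q2 C]
  refine diff_mem (m := 3) (by norm_num) (by norm_num) ?_ hd
  have hv := C.vec_XD (d 17)
  refine (Eq.subst (motive := fun e => Vec 3 (XD q (d 17)) e) ?_ hv)
  refine supp_ext hv hd [17, 20, 21] (by decide +kernel) ?_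
  simp [h20, h21]

/-- The last two layers are fixed by the field endomorphism. -/
theorem split4 {y : GL chevD4.Idx F} (hS : y ∈ C.S) (hy : y ∈ Um F 4) :
    ∃ s t : F, s ^ q = s ∧ t ^ q = t ∧ y = x 22 s * x 23 t := by
  obtain ⟨d, hd⟩ := exists_vec good (show (1 : ℤ) ≤ 4 by norm_num) hy
  have p := C.pattern (show (1 : ℤ) ≤ 4 by norm_num) hS hd
  have h22 : d 22 ^ q = d 22 := by
    have := p 22
    simp only [imgC, show rho 22 = 22 from rfl, show eps 22 = 1 from rfl, Int.cast_one, one_mul] at this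
    exact this.symm
  have e22 : ht chevD4 22 = 4 := by decide +kernel
  have hv0 : Vec 4 (x 22 (d 22)) (Pi.single 22 (d 22) : ℕ → F) :=
    e22 ▸ vec_xg good (D := chevD4) (by norm_num [nroots_eq]) (by omega) _
  have hv : Vec 4 (x 22 (d 22)) d :=
    Eq.subst (motive := fun e => Vec 4 (x 22 (d 22)) e)
      (supp_ext hv0 hd [22] (by decide +kernel) (by simp)) hv0
  set z := (x 22 (d 22))⁻¹ * y
  have hz : z ∈ Um F 5 := diff_mem (m := 4) (by norm_num) (by norm_num) hv hd
  have hzS : z ∈ C.S := mul_mem (inv_mem (C.xg_mem 22 (by simp) h22)) hS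
  obtain ⟨t, ht⟩ : ∃ t : F, z = x 23 t := by
    refine Subgroup.closure_induction ?_ ?_ ?_ ?_ hz
    · rintro _ ⟨r, t, hr, hS', rfl⟩
      have : ∀ r : Fin 24, 5 ≤ ht chevD4 r.val → r.val = 23 := by decide +kernel
      exact ⟨t, by rw [show r = 23 from this ⟨r, hr⟩ hS']⟩
    · exact ⟨0, (goodG.xg_zero 23).symm⟩
    · rintro _ _ _ _ ⟨a, rfl⟩ ⟨b, rfl⟩
      exact ⟨a + b, (goodG.xg_add 23 a b).symm⟩
    · rintro _ _ ⟨a, rfl⟩
      exact ⟨-a, goodG.xg_inv 23 a⟩
  refine ⟨d 22, t, h22, ?_, ?_⟩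
  · have h := C.fixed z hzS
    rw [ht, C.sg_x 23 (by norm_num), show rho 23 = 23 from rfl, show eps 23 = 1 from rfl, Int.cast_one,
      one_mul] at h
    exact goodG.xg_injective (by norm_num [nroots_eq]) h
  · rw [← ht]; simp [z]

end Ctx

end Cfsg.Agent.D4SubMax
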