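import Cfsg.Agent.D4SubMax.Cells

/-!
The subfield subgroup of `³D₄` is maximal.
-/

set_option autoImplicit false

namespace Cfsg.Agent.D4SubMax

open Cfsg.Lie Cfsg.Agent.ChevCore Cfsg.Agent.Chev54

variable {F : Type*} [Field F] {q : ℕ}

local notation "x" => xg chevD4 F

theorem vec1_coord {g : GL chevD4.Idx F} {d d' : ℕ → F} (h : Vec 1 g d) (h' : Vec 1 g d') :
    d = d' := h.unique good le_rfl h'

theorem scale_U {k : GL chevD4.Idx F}
    (hk : ∀ r < 24, ∃ e : F, e ≠ 0 ∧ ∀ t : F, k * x r t * k⁻¹ = x r (e * t))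
    {m : ℤ} {v : GL chevD4.Idx F} (hv : v ∈ Um F m) : k * v * k⁻¹ ∈ Um F m := by
  induction hv using Subgroup.closure_induction with
  | mem g hg =>
    obtain ⟨r, t, hr, hS, rfl⟩ := hg
    obtain ⟨c, -, hc⟩ := hk r hr
    rw [hc]; exact xg_mem_XS hr hS _
  | one => simp
  | mul a b _ _ ha hb =>
    have := mul_mem ha hb
    rwa [show k * a * k⁻¹ * (k * b * k⁻¹) = k * (a * b) * k⁻¹ by group] at this
  | inv a _ ha =>
    have := inv_mem ha
    rwa [show (k * a * k⁻¹)⁻¹ = k * a⁻¹ * k⁻¹ by group] at this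

namespace Ctx

variable (C : Ctx F q)
include C

theorem phi_U {m : ℤ} {g : GL chevD4.Idx F} (hg : g ∈ Um F m) : C.phi g ∈ Um F m := by
  induction hg using Subgroup.closure_induction with
  | mem g hg => obtain ⟨r, u, hr, hS, rfl⟩ := hg; rw [C.phi_x r hr]; exact xg_mem_XS hr hS _
  | one => rw [map_one]; exact one_mem _
  | mul a b _ _ ha hb => rw [map_mul]; exact mul_mem ha hb
  | inv a _ ha => rw [map_inv]; exact inv_mem ha

theorem coordA (t : F) {v : GL chevD4.Idx F} (hv : v ∈ Um F 2) :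
    ∀ d, Vec 1 (XA q t * v) d → d 18 = t := by
  intro d hd
  rw [vec1_coord hd ((C.vec_XA t).mul good le_rfl (vec_of_next good (m := 1)
    ((show (1 : ℤ) + 1 = 2 by norm_num).symm ▸ hv)))]
  simp

theorem XA_inj {t t' : F} (h : XA q t = XA q t') : t = t' := by
  have h1 := C.vec_XA t
  rw [h] at h1
  have := congrFun (vec1_coord h1 (C.vec_XA t')) 18
  simpa using this

/-- The second coordinate of the commutator of a positive element with a root element of `b`. -/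
theorem coordB {s t l : F} (hl : l ^ q = l) {u2 : GL chevD4.Idx F} (hu2 : u2 ∈ Um F 2) :
    ∀ d, Vec 2 (br (x 14 s * (XA q t * u2)) (x 14 l)) d → d 19 = -(l * t) := by
  have h2 : (1 : ℤ) ≤ 2 := by norm_num
  have hb : ∀ a : F, x 14 a ∈ Um F 1 := fun a => xg_mem_Um (by norm_num) (by decide +kernel) a
  obtain ⟨w, hw, -, hK⟩ := C.bracketBA hl t
  have h3 : XD q (-(l * (t ^ q * t ^ (q ^ 2)))) * w ∈ Um F (2 + 1) :=
    (show (2 : ℤ) + 1 = 3 by norm_num).symm ▸ mul_mem (C.XD_mem_U _) (Um_mono (by norm_num) hw)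
  have v1 := (C.vec_XC (l * t)).mul good h2 (vec_of_next good h3)
  rw [← mul_assoc, ← hK] at v1
  have e : br (x 14 s * (XA q t * u2)) (x 14 l) =
      x 14 s * (XA q t * br u2 (x 14 l) * (XA q t)⁻¹ * (br (x 14 l) (XA q t))⁻¹) * (x 14 s)⁻¹ := by
    have hc : Commute (x 14 s) (x 14 l) := by
      show _ * _ = _ * _
      rw [← goodG.xg_add, ← goodG.xg_add, add_comm]
    rw [br_mul_left, br_mul_left, show br (x 14 s) (x 14 l) = 1 by rw [br, hc.eq]; group, mul_one]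
    simp [br]; group
  have h4 : XA q t * br u2 (x 14 l) * (XA q t)⁻¹ ∈ Um F (2 + 1) :=
    Um_conj (by norm_num) (C.XA_mem_U t) (by
      rw [show br u2 (x 14 l) = (br (x 14 l) u2)⁻¹ by simp [br]; group]
      exact inv_mem (br_up h2 (hb l) hu2))
  have v := (((vec_of_next good (m := 2) h4).mul good h2 (v1.inv good h2))).conj good h2 (hb s)
  rw [← e] at v
  intro d hd
  rw [hd.unique good h2 v]
  simp

variable {H : Subgroup (GL chevD4.Idx F)} (hH : H ≤ C.S) (hM : ∀ g ∈ C.S, C.phi g = g → g ∈ H)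
  (hU : ∀ y ∈ H, y ∈ Um F 1 → C.phi y = y)

include hH hM hU in
theorem borel_fix {u h : GL chevD4.Idx F} (hu : u ∈ C.S) (huU : u ∈ Um F 1) (hh : h ∈ C.S)
    (hr : ∀ r < 24, ∃ e : F, e ≠ 0 ∧ ∀ t : F, h * x r t * h⁻¹ = x r (e * t))
    (hd : ∃ a b : Fˣ, b ^ q = b ∧
      (∀ t : F, h * x 18 t * h⁻¹ = x 18 ((a : F) ^ 2 * ((b : F))⁻¹ * t)) ∧
      (a ^ q = a → C.phi h = h))
    (hg : u * h ∈ H) : C.phi (u * h) = u * h := by
  obtain ⟨a, b, hb, h18, hfix⟩ := hd
  obtain ⟨e2, -, h2⟩ := hr 13 (by norm_num)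
  obtain ⟨e3, -, h3⟩ := hr 12 (by norm_num)
  set χ := (a : F) ^ 2 * ((b : F))⁻¹
  have hk : h * XA q 1 * h⁻¹ = XA q χ := by
    have e : h * XA q 1 * h⁻¹ = x 18 (χ * 1) * x 13 (e2 * 1 ^ q) * x 12 (e3 * 1 ^ (q ^ 2)) := by
      rw [XA, conj3, h18, h2, h3]
    have hS := mul_mem (mul_mem hh (C.XA_mem 1)) (inv_mem hh)
    rw [e] at hS ⊢
    rw [C.tri_A hS, mul_one]
  have hy : u * XA q χ * u⁻¹ ∈ H := by
    rw [← hk, show u * (h * XA q 1 * h⁻¹) * u⁻¹ = u * h * XA q 1 * (u * h)⁻¹ by group]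
    exact mul_mem (mul_mem hg (C.XA_in hM (one_pow q))) (inv_mem hg)
  have hyU : u * XA q χ * u⁻¹ ∈ Um F 1 := Um_conj le_rfl huU (C.XA_mem_U χ)
  have v1 := (C.vec_XA χ).conj good le_rfl huU
  have v2 := (C.vec_XA (χ ^ q)).conj good le_rfl (C.phi_U huU)
  have e2' : C.phi (u * XA q χ * u⁻¹) = C.phi u * XA q (χ ^ q) * (C.phi u)⁻¹ := by
    rw [map_mul, map_mul, map_inv, C.phi_XA]
  rw [← e2', hU _ hy hyU] at v2
  have hχ : χ = χ ^ q := by
    have := congrFun (vec1_coord v1 v2) 18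
    simpa using this
  have hb' : (b : F) ^ q = b := by rw [← Units.val_pow_eq_pow_val, hb]
  have hb0 : (b : F)⁻¹ ≠ 0 := inv_ne_zero b.ne_zero
  have ha2 : ((a : F) ^ q) ^ 2 = (a : F) ^ 2 := by
    have := hχ
    simp only [χ, mul_pow, inv_pow, hb'] at this
    rw [← pow_mul, mul_comm q 2, pow_mul]
    exact (mul_right_cancel₀ hb0 this).symm
  have ha : a ^ q = a := by
    refine Units.ext ?_
    rw [Units.val_pow_eq_pow_val]
    rcases sq_eq_sq_iff_eq_or_eq_neg.1 ha2 with h0 | h0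
    · exact h0
    · have h9 : ((a : F) ^ (q ^ 2)) = a := by rw [← pow_q2 C, h0, C.neg_pow', h0, neg_neg]
      have := C.pow_q3 (a : F)
      rwa [h9] at this
  have hhφ := hfix ha
  have huH : u ∈ H := by
    have := mul_mem hg (inv_mem (hM h hh hhφ))
    rwa [mul_inv_cancel_right] at this
  rw [map_mul, hhφ, hU u huH huU]

include hH hM hU in
theorem stab_fix {p : GL chevD4.Idx F} (hp : p ∈ H) (hs : C.Stab p) : C.phi p = p := by
  obtain ⟨hpS, e, he, -, hpe⟩ := hs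
  obtain ⟨u, hu, huU, W, v, hv, hvU, h, hhd, rfl⟩ := C.bruhat p hpS
  obtain ⟨hh, hscale, -⟩ := C.Hd_data h hhd
  obtain ⟨e1, he1, h1⟩ := hscale 23 (by norm_num)
  obtain ⟨e2, he2, -, h2⟩ := C.nW_conj W (show 23 < 24 by norm_num)
  have hW : wact W 23 = 23 := by
    have key := hpe 1
    have hv23 := (central23 hvU (e1 * 1)).eq
    have hu23 := (central23 huU (e * 1)).eq
    refine C.sep _ (wact_lt W (by norm_num)) 23 (by norm_num) (e2 * (e1 * 1)) (e * 1) ?_ ?_
    · exact mul_ne_zero he2 (mul_ne_zero he1 one_ne_zero)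
    · rw [← h2]
      calc nWord F C.n W * x 23 (e1 * 1) * (nWord F C.n W)⁻¹
          = nWord F C.n W * (v * x 23 (e1 * 1) * v⁻¹) * (nWord F C.n W)⁻¹ := by
            rw [hv23, mul_inv_cancel_right]
        _ = u⁻¹ * (u * nWord F C.n W * (v * h) * x 23 1 * (u * nWord F C.n W * (v * h))⁻¹) * u := by
            rw [← h1]; group
        _ = x 23 (e * 1) := by rw [key, mul_assoc, ← hu23, inv_mul_cancel_left]
  obtain ⟨W', hW', hdec⟩ : ∃ W' : List (Fin 2), (W' = [] ∨ W' = [1]) ∧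
      ∀ r < 24, wact W r = wact W' r := by
    rcases perm_of_fix hW with h | h
    · exact ⟨[], Or.inl rfl, h⟩
    · exact ⟨[1], Or.inr rfl, h⟩
  obtain ⟨k, hkd, hkW⟩ := C.perm_eq W W' hdec
  obtain ⟨hk, hks, -⟩ := C.Hd_data k hkd
  obtain ⟨hkh, hkhs, hkhd⟩ := C.Hd_data _ (mul_mem hkd hhd)
  have hkU : k * v * k⁻¹ ∈ Um F 1 := scale_U hks hvU
  have hkvS : k * v * k⁻¹ ∈ C.S := mul_mem (mul_mem hk hv) (inv_mem hk)
  have eg : u * nWord F C.n W * (v * h) = u * nWord F C.n W' * ((k * v * k⁻¹) * (k * h)) := by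
    rw [hkW]; group
  rw [eg] at hp ⊢
  set v' := k * v * k⁻¹
  set h' := k * h
  have borel : ∀ u', u' ∈ C.S → u' ∈ Um F 1 → u' * v' * h' ∈ H → C.phi (u' * v' * h') = u' * v' * h' :=
    fun u' h1 h2 h3 =>
      C.borel_fix hH hM hU (mul_mem h1 hkvS) (mul_mem h2 hkU) hkh hkhs hkhd h3
  rcases hW' with rfl | rfl
  · have e0 : u * nWord F C.n [] * (v' * h') = u * v' * h' := by simp [nWord, mul_assoc]
    rw [e0] at hp ⊢
    exact borel u hu huU hp
  rw [show nWord F C.n [1] = C.n 1 by simp [nWord]] at hp ⊢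
  obtain ⟨s, c, hs, -, hu2⟩ := C.split1 hu huU
  set u2 := (x 14 s * XA q c)⁻¹ * u with hu2d
  have eu : u = x 14 s * (XA q c * u2) := by rw [hu2d]; group
  -- conjugating the root element of `3a+b` measures the parameter of `a`
  obtain ⟨e22, he22, h22⟩ := hkhs 22 (by norm_num)
  obtain ⟨e14, he14, -, h14⟩ := C.n_conj 1 22 (by norm_num)
  obtain ⟨g23, -, hg23, h23n⟩ := C.n_conj 1 23 (by norm_num)
  have hq22 : e22 ^ q = e22 := by
    have hm := mul_mem (mul_mem hkh (C.xg_mem 22 (by simp) (one_pow q))) (inv_mem hkh)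
    rw [h22, mul_one] at hm
    have := C.fixed _ hm
    rw [C.sg_x 22 (by norm_num), show rho 22 = 22 from rfl, show eps 22 = 1 from rfl, Int.cast_one,
      one_mul] at this
    exact goodG.xg_injective (by norm_num [nroots_eq]) this
  set z := br v' (x 22 e22)
  have hzU : z ∈ Um F 5 :=
    (show (4 : ℤ) + 1 = 5 by norm_num) ▸ br_up (by norm_num) hkU
      (xg_mem_Um (by norm_num) (by decide +kernel) e22)
  have hzS : z ∈ C.S :=
    mul_mem (mul_mem (mul_mem hkvS (C.xg_mem 22 (by simp) hq22)) (inv_mem hkvS))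
      (inv_mem (C.xg_mem 22 (by simp) hq22))
  obtain ⟨t, htq, hz⟩ : ∃ t : F, t ^ q = t ∧ z = x 23 t := by
    obtain ⟨t, hz⟩ : ∃ t : F, z = x 23 t := by
      refine Subgroup.closure_induction ?_ ?_ ?_ ?_ hzU
      · rintro _ ⟨r, t, hr, hS', rfl⟩
        have : ∀ r : Fin 24, 5 ≤ ht chevD4 r.val → r.val = 23 := by decide +kernel
        exact ⟨t, by rw [show r = 23 from this ⟨r, hr⟩ hS']⟩
      · exact ⟨0, (goodG.xg_zero 23).symm⟩
      · rintro _ _ _ _ ⟨a, rfl⟩ ⟨b, rfl⟩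
        exact ⟨a + b, (goodG.xg_add 23 a b).symm⟩
      · rintro _ _ ⟨a, rfl⟩
        exact ⟨-a, goodG.xg_inv 23 a⟩
    exact ⟨t, C.x23_fix (hz ▸ hzS), hz⟩
  set l := e14 * e22
  have hl0 : l ≠ 0 := mul_ne_zero he14 he22
  set f := g23 * t
  have hf : f ^ q = f := fix_mul hg23 htq
  set y := br u (x 14 l) with hy
  have econj : (u * C.n 1 * (v' * h')) * x 22 1 * (u * C.n 1 * (v' * h'))⁻¹ =
      x 23 f * (y * x 14 l) := by
    have e1 : (v' * h') * x 22 1 * (v' * h')⁻¹ = x 23 t * x 22 e22 := by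
      rw [← hz, show (v' * h') * x 22 1 * (v' * h')⁻¹ = v' * (h' * x 22 1 * h'⁻¹) * v'⁻¹ by group,
        h22, mul_one]
      simp [z, br]
    calc (u * C.n 1 * (v' * h')) * x 22 1 * (u * C.n 1 * (v' * h'))⁻¹
        = u * (C.n 1 * ((v' * h') * x 22 1 * (v' * h')⁻¹) * (C.n 1)⁻¹) * u⁻¹ := by group
      _ = u * (x 23 f * x 14 l) * u⁻¹ := by
          rw [e1, show C.n 1 * (x 23 t * x 22 e22) * (C.n 1)⁻¹ = (C.n 1 * x 23 t * (C.n 1)⁻¹) *
            (C.n 1 * x 22 e22 * (C.n 1)⁻¹) by group, h23n, h14]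
          rfl
      _ = x 23 f * (y * x 14 l) := by
          rw [← mul_assoc u, (central23 huU f).eq, hy, br]; group
  have hyH : y * x 14 l ∈ H := by
    have := mul_mem (mul_mem hp (C.x_in hM 22 (by simp) (one_pow q))) (inv_mem hp)
    rw [econj] at this
    have h2 := mul_mem (inv_mem (C.x_in hM 23 (by simp) hf)) this
    rwa [inv_mul_cancel_left] at h2
  have h14U : x 14 l ∈ Um F 1 := xg_mem_Um (by norm_num) (by decide +kernel) l
  have hlq : l ^ q = l := by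
    have hyS := hH hyH
    have h2 := mul_mem (mul_mem (inv_mem hu) hyS) hu
    rw [hy, show u⁻¹ * (br u (x 14 l) * x 14 l) * u = x 14 l by simp [br]; group] at h2
    have := C.fixed _ h2
    rw [C.sg_x 14 (by norm_num), show rho 14 = 14 from rfl, show eps 14 = 1 from rfl, Int.cast_one,
      one_mul] at this
    exact goodG.xg_injective (by norm_num [nroots_eq]) this
  have hyU : y * x 14 l ∈ Um F 1 :=
    mul_mem (mul_mem (mul_mem (mul_mem huU h14U) (inv_mem huU)) (inv_mem h14U)) h14U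
  have hfix := hU _ hyH hyU
  rw [map_mul, C.phi_x 14 (by norm_num), hlq, mul_left_inj] at hfix
  have hc : c ^ q = c := by
    have hφu2 : C.phi u2 ∈ Um F 2 := C.phi_U hu2
    have e3 : C.phi y = br (x 14 s * (XA q (c ^ q) * C.phi u2)) (x 14 l) := by
      rw [hy, br, br, map_mul, map_mul, map_mul, map_inv, map_inv, C.phi_x 14 (by norm_num), hlq, eu,
        map_mul, map_mul, C.phi_x 14 (by norm_num), hs, C.phi_XA]
    have e4 : y = br (x 14 s * (XA q c * u2)) (x 14 l) := by rw [hy, eu]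
    have hb : y ∈ Um F 2 := by
      have := br_up le_rfl huU h14U
      rwa [show (1 : ℤ) + 1 = 2 by norm_num] at this
    obtain ⟨d, hd⟩ := exists_vec good (show (1 : ℤ) ≤ 2 by norm_num) hb
    have d1 := C.coordB hlq hu2 d (e4 ▸ hd)
    have d2 := C.coordB (t := c ^ q) hlq hφu2 d (e3 ▸ hfix.symm ▸ hd)
    rw [d1] at d2
    exact (mul_left_cancel₀ hl0 (neg_inj.1 d2)).symm
  set m := x 14 s * XA q c
  have hmS : m ∈ C.S := mul_mem (C.xg_mem 14 (by simp) hs) (C.XA_mem c)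
  have hmφ : C.phi m = m := by rw [map_mul, C.phi_x 14 (by norm_num), hs, C.phi_XA, hc]
  have hu2S : u2 ∈ C.S := mul_mem (inv_mem hmS) hu
  set u' := (C.n 1)⁻¹ * u2 * C.n 1
  have hu'S : u' ∈ C.S := mul_mem (mul_mem (inv_mem (C.n_mem 1)) hu2S) (C.n_mem 1)
  have hu'U : u' ∈ Um F 1 := by
    have := C.nW_back [1] (htGe chevD4 2) ?_ hu2
    · simpa [nWord] using this
    · have : ∀ r : Fin 24, 2 ≤ ht chevD4 r.val →
          ∃ r' : Fin 24, 1 ≤ ht chevD4 r'.val ∧ wact [1] r'.val = r.val := by decide +kernel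
      intro r hr h1
      obtain ⟨r', h2, h3⟩ := this ⟨r, hr⟩ h1
      exact ⟨r'.val, r'.isLt, h2, h3⟩
  have e5 : u * C.n 1 * (v' * h') = m * C.n 1 * (u' * v' * h') := by
    rw [eu]; simp only [m, u']; group
  have hmn : C.phi (m * C.n 1) = m * C.n 1 := by rw [map_mul, hmφ, C.n_fix]
  rw [e5] at hp ⊢
  have hrest : u' * v' * h' ∈ H := by
    have := mul_mem (inv_mem (hM _ (mul_mem hmS (C.n_mem 1)) hmn)) hp
    rwa [inv_mul_cancel_left] at this
  rw [map_mul, hmn, borel u' hu'S hu'U hrest]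

include hH hM hU in
/-- Without a further unipotent element the subgroup is the subfield subgroup. -/
theorem all_fix {g : GL chevD4.Idx F} (hg : g ∈ H) : C.phi g = g := by
  obtain ⟨m, hm, hmφ, c, p, hp, rfl⟩ := C.red_all (hH hg)
  obtain ⟨hpS, e, he, heq, hpe⟩ := id hp
  obtain ⟨e', he', he'q, hr2⟩ := C.nW_conj (cellWord 2) (show 23 < 24 by norm_num)
  have hmH := hM m hm hmφ
  set r2 := nWord F C.n (cellWord 2)
  set l := e' * (e * 1)
  have hl : l ^ q = l := fix_mul he'q (fix_mul heq (one_pow q))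
  have hl0 : l ≠ 0 := mul_ne_zero he' (mul_ne_zero he one_ne_zero)
  have h14U : x 14 l ∈ Um F 1 := xg_mem_Um (by norm_num) (by decide +kernel) l
  have hbH := C.x_in hM 14 (by simp) hl
  have hyH : XA q c * x 14 l * (XA q c)⁻¹ ∈ H := by
    have hgx := mul_mem (mul_mem hg (C.x_in hM 23 (by simp) (one_pow q))) (inv_mem hg)
    have := mul_mem (mul_mem (inv_mem hmH) hgx) hmH
    rwa [show m⁻¹ * (m * (XA q c * r2) * p * x 23 1 * (m * (XA q c * r2) * p)⁻¹) * m =
      XA q c * (r2 * (p * x 23 1 * p⁻¹) * r2⁻¹) * (XA q c)⁻¹ by group, hpe, hr2,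
      show wact (cellWord 2) 23 = 14 by decide +kernel] at this
  have hfix := hU _ hyH (Um_conj le_rfl (C.XA_mem_U c) h14U)
  have hc : c ^ q = c := by
    rw [map_mul, map_mul, map_inv, C.phi_XA, C.phi_x 14 (by norm_num), hl] at hfix
    have e3 : br (XA q (c ^ q)) (x 14 l) = br (XA q c) (x 14 l) := by rw [br, br, hfix]
    have hb : br (XA q c) (x 14 l) ∈ Um F 2 := by
      have := br_up le_rfl (C.XA_mem_U c) h14U
      rwa [show (1 : ℤ) + 1 = 2 by norm_num] at this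
    obtain ⟨d, hd⟩ := exists_vec good (show (1 : ℤ) ≤ 2 by norm_num) hb
    have e1 : ∀ t : F, br (x 14 (0 : F) * (XA q t * 1)) (x 14 l) = br (XA q t) (x 14 l) := fun t => by
      rw [goodG.xg_zero, one_mul, mul_one]
    have d1 := C.coordB (s := 0) (t := c) hl (one_mem _) d ((e1 c).symm ▸ hd)
    have d2 := C.coordB (s := 0) (t := c ^ q) hl (one_mem _) d (((e1 _).trans e3).symm ▸ hd)
    rw [d1] at d2
    exact (mul_left_cancel₀ hl0 (neg_inj.1 d2)).symm
  have hr2φ : C.phi r2 = r2 := C.nW_fix _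
  have hpre : C.phi (m * (XA q c * r2)) = m * (XA q c * r2) := by
    rw [map_mul, map_mul, hmφ, C.phi_XA, hc, hr2φ]
  have hpreS : m * (XA q c * r2) ∈ C.S := mul_mem hm (mul_mem (C.XA_mem c) (C.nW_mem _))
  have hpH : p ∈ H := by
    have := mul_mem (inv_mem (hM _ hpreS hpre)) hg
    rwa [inv_mul_cancel_left] at this
  rw [map_mul, hpre, C.stab_fix hH hM hU hpH hp]

end Ctx

end Cfsg.Agent.D4SubMax
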